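import Mathlib
import Cfsg.Prelude.Def_CaseTheorems
import Cfsg.Prelude.Def_OddOrderLocal
import Cfsg.Agent.Lib.Transfer.RankTwo
import Cfsg.Agent.Lib.Grp.Basic

/-!
`p`-central groups for odd `p`: every element of order `p` is central.
-/

set_option autoImplicit false

namespace Cfsg.Agent.Grp.Blackburn

open Subgroup
open scoped commutatorElement

variable {p : ℕ} [hp : Fact p.Prime]

/-- Every element of order dividing `p` is central. -/
def PCentral (p : ℕ) (P : Type*) [Group P] : Prop :=
  ∀ x : P, x ^ p = 1 → x ∈ center P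

/-- The subgroup generated by the `p`-th powers. -/
def powSub (p : ℕ) (P : Type*) [Group P] : Subgroup P :=
  Subgroup.closure (Set.range fun x : P => x ^ p)

theorem pow_mem_powSub {P : Type*} [Group P] (x : P) : x ^ p ∈ powSub p P :=
  Subgroup.subset_closure ⟨x, rfl⟩

instance powSub_normal {P : Type*} [Group P] : (powSub p P).Normal := by
  refine ⟨fun x hx g => ?_⟩
  have h : (powSub p P).map (MulAut.conj g).toMonoidHom ≤ powSub p P := by
    rw [powSub, MonoidHom.map_closure, Subgroup.closure_le]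
    rintro _ ⟨_, ⟨y, rfl⟩, rfl⟩
    exact Subgroup.subset_closure ⟨g * y * g⁻¹, conj_pow⟩
  exact h ⟨x, hx, rfl⟩

theorem powSub_le_frattini {P : Type*} [Group P] [Finite P] (hP : IsPGroup p P) :
    powSub p P ≤ frattini P := by
  rw [powSub, Subgroup.closure_le]
  rintro _ ⟨y, rfl⟩
  exact Grp.pGroup_pow_mem_frattini hP y

theorem pcentral_subgroup {P : Type*} [Group P] (h : PCentral p P) (S : Subgroup P) : PCentral p S :=
  fun x hx => mem_center_iff.2 fun g =>
    Subtype.ext (mem_center_iff.1 (h (x : P) (by simpa using congrArg Subtype.val hx)) g)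

/-- In class two, `p`-th powers are multiplicative when the commutator has order dividing `p`. -/
theorem mul_pow_of_comm {P : Type*} [Group P] (hp2 : p ≠ 2) {a b : P}
    (hc : ⁅b, a⁆ ∈ center P) (hc1 : ⁅b, a⁆ ^ p = 1) : (a * b) ^ p = a ^ p * b ^ p := by
  have h := Grp.mul_pow_class_two (x := a) (y := b) (c := ⁅b, a⁆) (by rw [commutatorElement_def]; group)
    (mem_center_iff.1 hc a).symm (mem_center_iff.1 hc b).symm p
  have h2 : 2 < p := lt_of_le_of_ne hp.out.two_le hp2.symm
  obtain ⟨m, hm⟩ := hp.out.dvd_choose_self two_ne_zero h2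
  rwa [hm, pow_mul, hc1, one_pow, one_mul] at h

/-- In a `p`-central group, elements with equal `p`-th powers differ by an element of order `p`. -/
theorem pow_eq_aux (hp2 : p ≠ 2) : ∀ (n : ℕ) (P : Type*) [Group P] [Finite P],
    Nat.card P = n → IsPGroup p P → PCentral p P →
      ∀ x y : P, x ^ p = y ^ p → (x * y⁻¹) ^ p = 1 := by
  intro n
  induction n using Nat.strong_induction_on with
  | _ n ih =>
  intro P _ _ hn hP hc x y hxy
  haveI := hP.isNilpotent
  have hsub : ∀ S : Subgroup P, S ≠ ⊤ → ∀ a ∈ S, ∀ b ∈ S, a ^ p = b ^ p → (a * b⁻¹) ^ p = 1 := by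
    intro S hS a ha b hb hab
    exact congrArg Subtype.val (ih _ (hn ▸ Grp.card_lt_of_ne_top hS) S rfl (hP.to_subgroup S)
      (pcentral_subgroup hc S) ⟨a, ha⟩ ⟨b, hb⟩ (Subtype.ext hab))
  by_cases hxt : Subgroup.zpowers x = ⊤
  · obtain ⟨i, hi⟩ := Subgroup.mem_zpowers_iff.mp (hxt.ge (Subgroup.mem_top y))
    have hcomm : Commute x y⁻¹ := by rw [← hi]; exact ((Commute.refl x).zpow_right i).inv_right
    rw [hcomm.mul_pow, inv_pow, hxy, mul_inv_cancel]
  by_cases hS : Subgroup.closure ({x, y} : Set P) = ⊤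
  swap
  · exact hsub _ hS x (Subgroup.subset_closure (Set.mem_insert _ _)) y
      (Subgroup.subset_closure (Set.mem_insert_of_mem _ rfl)) hxy
  have hw : x ^ p ∈ center P := by
    have h1 : Subgroup.closure ({x, y} : Set P) ≤ centralizer ({x ^ p} : Set P) := by
      rw [Subgroup.closure_le]
      rintro z (rfl | rfl)
      · exact mem_centralizer_singleton_iff.2 ((Commute.self_pow z p).eq)
      · exact mem_centralizer_singleton_iff.2 (hxy ▸ (Commute.self_pow z p).eq)
    refine mem_center_iff.2 fun g => mem_centralizer_singleton_iff.1 (h1 ?_)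
    rw [hS]; exact Subgroup.mem_top g
  obtain ⟨M, hM, hxM⟩ := (eq_top_or_exists_le_coatom (Subgroup.zpowers x)).resolve_left hxt
  haveI : M.Normal := Grp.coatom_normal_of_nilpotent hM
  have hcomm : ∀ g : P, ⁅g, x⁆ ^ p = 1 := by
    intro g
    have hgx : g * x * g⁻¹ ∈ M := Subgroup.Normal.conj_mem inferInstance x (hxM (mem_zpowers x)) g
    have h := hsub M hM.1 _ hgx x (hxM (mem_zpowers x))
      (by rw [conj_pow, mem_center_iff.1 hw g, mul_inv_cancel_right])
    rwa [← commutatorElement_def] at h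
  have hc0 : ⁅y⁻¹, x⁆ ∈ center P := hc _ (hcomm _)
  rw [mul_pow_of_comm hp2 hc0 (hcomm _), inv_pow, hxy, mul_inv_cancel]

theorem pow_eq {P : Type*} [Group P] [Finite P] (hp2 : p ≠ 2) (hP : IsPGroup p P) (hc : PCentral p P)
    {x y : P} (hxy : x ^ p = y ^ p) : (x * y⁻¹) ^ p = 1 :=
  pow_eq_aux hp2 _ P rfl hP hc x y hxy

/-- If `x ^ p` has order dividing `p` then every commutator with `x` has order dividing `p`. -/
theorem comm_pow {P : Type*} [Group P] [Finite P] (hp2 : p ≠ 2) (hP : IsPGroup p P) (hc : PCentral p P)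
    {x : P} (hx : (x ^ p) ^ p = 1) (g : P) : ⁅g, x⁆ ^ p = 1 := by
  rw [commutatorElement_def]
  refine pow_eq hp2 hP hc ?_
  rw [conj_pow, mem_center_iff.1 (hc _ hx) g, mul_inv_cancel_right]

theorem comm_mem_center {P : Type*} [Group P] [Finite P] (hp2 : p ≠ 2) (hP : IsPGroup p P) (hc : PCentral p P)
    {x : P} (hx : (x ^ p) ^ p = 1) (g : P) : ⁅g, x⁆ ∈ center P :=
  hc _ (comm_pow hp2 hP hc hx g)

/-- The index of the subgroup of `p`-th powers is at most the number of elements of order dividing `p`. -/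
theorem index_powSub_le {P : Type*} [Group P] [Finite P] (hp2 : p ≠ 2) (hP : IsPGroup p P)
    (hc : PCentral p P) : (powSub p P).index ≤ Nat.card {x : P // x ^ p = 1} := by
  classical
  let r : powSub p P → P := fun w => Function.invFun (fun x : P => x ^ p) (w : P)
  let f : P → powSub p P × {x : P // x ^ p = 1} := fun x =>
    (⟨x ^ p, pow_mem_powSub x⟩, ⟨x * (r ⟨x ^ p, pow_mem_powSub x⟩)⁻¹,
      pow_eq hp2 hP hc (Function.invFun_eq (f := fun x : P => x ^ p) ⟨x, rfl⟩).symm⟩)
  have hf : Function.Injective f := by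
    intro a b hab
    have h1 := congrArg Prod.fst hab
    have h2 := congrArg (fun q => (q.2 : P)) hab
    simp only [f] at h1 h2
    rw [h1] at h2
    exact mul_right_cancel h2
  have h := Nat.card_le_card_of_injective f hf
  rw [Nat.card_prod, ← Subgroup.card_mul_index (powSub p P)] at h
  exact Nat.le_of_mul_le_mul_left h Nat.card_pos

/-- The elements of order dividing `p` of a `p`-central group form a subgroup. -/
def omega {P : Type*} [Group P] (h : PCentral p P) : Subgroup P where
  carrier := {x | x ^ p = 1}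
  one_mem' := one_pow p
  mul_mem' := fun {a b} ha hb => by
    show (a * b) ^ p = 1
    rw [Commute.mul_pow (show Commute a b from (mem_center_iff.1 (h a ha) b).symm), show a ^ p = 1 from ha,
      show b ^ p = 1 from hb, one_mul]
  inv_mem' := fun {a} ha => by
    show a⁻¹ ^ p = 1
    rw [inv_pow, show a ^ p = 1 from ha, inv_one]

/-- A `p`-central group with at most `p` elements of order dividing `p` is cyclic. -/
theorem isCyclic_of_omega {P : Type*} [Group P] [Finite P] (hp2 : p ≠ 2) (hP : IsPGroup p P)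
    (hc : PCentral p P) (h : Nat.card {x : P // x ^ p = 1} ≤ p) : IsCyclic P := by
  have hi := (index_powSub_le hp2 hP hc).trans h
  by_cases ht : powSub p P = ⊤
  · have := ht.ge.trans (powSub_le_frattini hP)
    have h2 := frattini_nongenerating (K := (⊥ : Subgroup P)) (eq_top_iff.2 (this.trans le_sup_right))
    haveI : Subsingleton P := ⟨fun a b => by
      have ha : a ∈ (⊥ : Subgroup P) := h2.ge (mem_top a)
      have hb : b ∈ (⊥ : Subgroup P) := h2.ge (mem_top b)
      rw [mem_bot.1 ha, mem_bot.1 hb]⟩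
    exact ⟨1, fun a => ⟨0, Subsingleton.elim _ _⟩⟩
  obtain ⟨g, -, hg⟩ := SetLike.exists_of_lt (lt_top_iff_ne_top.2 ht)
  refine ⟨g, fun a => ?_⟩
  have hlt : powSub p P < powSub p P ⊔ zpowers g := lt_of_le_of_ne le_sup_left fun e =>
    hg (e.symm ▸ mem_sup_right (mem_zpowers g))
  have h2 := Subgroup.index_strictAnti hlt
  obtain ⟨i, hi'⟩ := hP.index (powSub p P ⊔ zpowers g)
  obtain ⟨j, hj'⟩ := hP.index (powSub p P)
  rw [hi', hj'] at h2
  rw [hj'] at hi
  have h3 := (Nat.pow_le_pow_iff_right hp.out.one_lt).1 (hi.trans_eq (pow_one p).symm)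
  have h4 := (Nat.pow_lt_pow_iff_right hp.out.one_lt).1 h2
  have hi0 : i = 0 := by omega
  rw [hi0, pow_zero, Subgroup.index_eq_one] at hi'
  have h5 := frattini_nongenerating (K := zpowers g) (eq_top_iff.2 (by
    rw [← hi']
    exact sup_le ((powSub_le_frattini hP).trans le_sup_right) le_sup_left))
  exact h5.ge (mem_top a)

end Cfsg.Agent.Grp.Blackburn
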