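import Mathlib
import Cfsg.Agent.Lib.Grp.Blackburn.Central

/-!
Huppert's criterion: for odd `p`, a `p`-group whose `p`-th powers generate a subgroup of index at most
`p ^ 2` is metacyclic. The argument is that of `Lib.Transfer.RankTwo`, with another hypothesis.
-/

set_option autoImplicit false
set_option linter.style.haveILetI false
set_option maxHeartbeats 1000000

namespace Cfsg.Agent.Grp.Blackburn

open Subgroup
open Cfsg.Agent.Transfer (NormalSteps.exists_normal_step)
open Cfsg.Agent.Transfer.RankTwo (exists_normal_card finish isCyclic_quotient_of_gen)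
open scoped commutatorElement

universe u

variable {p : ℕ} [hp : Fact p.Prime]

theorem index_powSub_quotient {R : Type u} [Group R] [Finite R] (h : (powSub p R).index ≤ p ^ 2)
    (T : Subgroup R) [T.Normal] : (powSub p (R ⧸ T)).index ≤ p ^ 2 := by
  refine le_trans ?_ h
  have he : (powSub p R).map (QuotientGroup.mk' T) ≤ powSub p (R ⧸ T) := by
    rw [powSub, MonoidHom.map_closure, Subgroup.closure_le]
    rintro _ ⟨_, ⟨y, rfl⟩, rfl⟩
    exact pow_mem_powSub (p := p) (QuotientGroup.mk' T y)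
  have h1 := Subgroup.index_dvd_of_le he
  exact Nat.le_of_dvd (Nat.pos_of_ne_zero Subgroup.index_ne_zero_of_finite)
    (h1.trans (Subgroup.index_map_dvd _ (QuotientGroup.mk'_surjective T)))

/-- The class two case: the commutators lie in a central subgroup of order dividing `p`. -/
theorem isMetacyclic_of_commutator {R : Type u} [Group R] [Finite R] (hp2 : p ≠ 2) (hR : IsPGroup p R)
    (h : (powSub p R).index ≤ p ^ 2) {t : R} (ht : t ∈ Subgroup.center R) (htp : t ^ p = 1)
    (hcom : ∀ x y : R, ⁅x, y⁆ ∈ Subgroup.zpowers t) : Cfsg.IsMetacyclic R := by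
  classical
  have hcen : ∀ x y : R, ∀ z : R, Commute ⁅x, y⁆ z := fun x y z =>
    (Subgroup.mem_center_iff.1 (Subgroup.zpowers_le.2 ht (hcom x y)) z).symm
  have hcp : ∀ x y : R, ⁅x, y⁆ ^ p = 1 := fun x y => by
    obtain ⟨i, hi⟩ := Subgroup.mem_zpowers_iff.1 (hcom x y)
    rw [← hi, ← zpow_natCast (t ^ i), ← zpow_mul, mul_comm, zpow_mul, zpow_natCast, htp, one_zpow]
  -- the `p`-th powers form a subgroup
  let φ : R →* R :=
    { toFun := fun x => x ^ p
      map_one' := one_pow p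
      map_mul' := fun x y => by
        have hpow := Grp.mul_pow_class_two (x := x) (y := y) (c := ⁅y, x⁆)
          (by rw [commutatorElement_def]; group) (hcen y x x) (hcen y x y) p
        obtain ⟨m, hm⟩ := hp.out.dvd_choose_self two_ne_zero (lt_of_le_of_ne hp.out.two_le hp2.symm : 2 < p)
        rw [hm, pow_mul, hcp y x, one_pow, one_mul] at hpow
        exact hpow }
  set U := φ.range with hU
  haveI : U.Normal := ⟨fun x hx g => by
    obtain ⟨y, rfl⟩ := hx
    exact ⟨g * y * g⁻¹, conj_pow⟩⟩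
  have hUf : U ≤ frattini R := by
    rintro _ ⟨y, rfl⟩
    exact Grp.pGroup_pow_mem_frattini hR y
  -- the quotient by them
  have hQe : ∀ q : R ⧸ U, q ^ p = 1 := fun q => by
    obtain ⟨r, rfl⟩ := QuotientGroup.mk_surjective q
    rw [← QuotientGroup.mk_pow]
    exact (QuotientGroup.eq_one_iff _).2 ⟨r, rfl⟩
  have hQc : U.index ≤ p ^ 2 := by
    refine le_trans (Nat.le_of_dvd (Nat.pos_of_ne_zero Subgroup.index_ne_zero_of_finite)
      (Subgroup.index_dvd_of_le ?_)) h
    rw [powSub, Subgroup.closure_le]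
    rintro _ ⟨y, rfl⟩
    exact ⟨y, rfl⟩
  have hRU : ∀ x y : R, ⁅x, y⁆ ∈ U := fun x y => by
    obtain ⟨j, hj⟩ := IsPGroup.iff_card.1 (hR.to_quotient U)
    have hj2 : j ≤ 2 := (Nat.pow_le_pow_iff_right hp.out.one_lt).1 (by rw [← hj]; exact hQc)
    have hcomm : ∀ a b : R ⧸ U, a * b = b * a := by
      interval_cases j
      · haveI : Subsingleton (R ⧸ U) := (Nat.card_eq_one_iff_unique.1 (by simpa using hj)).1
        exact fun a b => Subsingleton.elim _ _
      · haveI : IsCyclic (R ⧸ U) := isCyclic_of_prime_card (p := p) (by rwa [pow_one] at hj)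
        letI := IsCyclic.commGroup (α := R ⧸ U)
        exact fun a b => mul_comm a b
      · exact fun a b => (IsPGroup.isMulCommutative_of_card_eq_prime_sq hj).is_comm.comm a b
    rw [← QuotientGroup.eq_one_iff]
    show QuotientGroup.mk' U ⁅x, y⁆ = 1
    rw [map_commutatorElement, commutatorElement_eq_one_iff_mul_comm]
    exact hcomm _ _
  by_cases hab : ∀ x y : R, ⁅x, y⁆ = 1
  swap
  · push Not at hab
    obtain ⟨x₀, y₀, hne⟩ := hab
    -- a cyclic subgroup over the commutators, of largest order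
    obtain ⟨u, hu⟩ := hRU x₀ y₀
    haveI : Nonempty {g : R // ⁅x₀, y₀⁆ ∈ Subgroup.zpowers g} :=
      ⟨⟨u, hu ▸ pow_mem (Subgroup.mem_zpowers u) p⟩⟩
    obtain ⟨⟨g, hg⟩, hmax⟩ := Finite.exists_max
      (fun g : {g : R // ⁅x₀, y₀⁆ ∈ Subgroup.zpowers g} => orderOf g.1)
    have htg : Subgroup.zpowers t ≤ Subgroup.zpowers g := by
      have ht1 : t ≠ 1 := fun e => hne (by simpa [e] using hcom x₀ y₀)
      have hc1 : orderOf ⁅x₀, y₀⁆ = p := orderOf_eq_prime (hcp x₀ y₀) hne
      have := Subgroup.eq_of_le_of_card_ge (Subgroup.zpowers_le.2 (hcom x₀ y₀)) (by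
        rw [Nat.card_zpowers, Nat.card_zpowers, hc1, orderOf_eq_prime htp ht1])
      exact this ▸ Subgroup.zpowers_le.2 hg
    refine finish hR hUf hQc (fun a b => htg (hcom a b)) (fun y hy => ?_) (fun u hu => hu)
    · 
      have hy1 : ⁅x₀, y₀⁆ ∈ Subgroup.zpowers y :=
        Subgroup.zpowers_le.2 (hy ▸ pow_mem (Subgroup.mem_zpowers y) p) hg
      exact hmax ⟨y, hy1⟩
  · obtain ⟨g, hmax⟩ := Finite.exists_max (fun g : R => orderOf g)
    exact finish hR hUf hQc (g := g) (fun a b => by rw [hab a b]; exact one_mem _) (fun y _ => hmax y) (fun u hu => hu)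

/-- Huppert: for `p > 3`, a `p`-group with `Ω₁` of order at most `p²` is metacyclic. -/
theorem isMetacyclic_aux (hp2 : p ≠ 2) : ∀ (n : ℕ) (R : Type u) [Group R] [Finite R],
    Nat.card R = n → IsPGroup p R → (powSub p R).index ≤ p ^ 2 → Cfsg.IsMetacyclic R := by
  intro n
  induction n using Nat.strong_induction_on with
  | _ n ih =>
  intro R _ _ hn hR h
  by_cases hD : commutator R = ⊥
  · refine isMetacyclic_of_commutator hp2 hR h (t := 1) (one_mem _) (one_pow p) fun x y => ?_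
    have hm : ⁅x, y⁆ ∈ commutator R := by
      rw [_root_.commutator_def]; exact Subgroup.commutator_mem_commutator (Subgroup.mem_top x) (Subgroup.mem_top y)
    rw [hD, Subgroup.mem_bot] at hm
    rw [hm]; exact one_mem _
  obtain ⟨T, hTn, hTD, hTc⟩ := exists_normal_card hR (commutator R) 1 (by
    obtain ⟨j, hj⟩ := IsPGroup.iff_card.mp (hR.to_subgroup (commutator R))
    rw [hj]
    refine Nat.pow_le_pow_right hp.out.pos (Nat.one_le_iff_ne_zero.mpr fun h0 => hD ?_)
    exact Subgroup.eq_bot_of_card_eq _ (by rw [hj, h0, pow_zero]))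
  rw [pow_one] at hTc
  haveI := hTn
  have hTz : T ≤ Subgroup.center R := Grp.RankThree.central_of_card_le hR hTc.le
  haveI : IsCyclic T := isCyclic_of_prime_card (p := p) hTc
  obtain ⟨⟨t, htT⟩, htgen⟩ := IsCyclic.exists_generator (α := T)
  have hTt : T = Subgroup.zpowers t := le_antisymm (fun x hx => by
    obtain ⟨i, hi⟩ := Subgroup.mem_zpowers_iff.1 (htgen ⟨x, hx⟩)
    exact ⟨i, by simpa using congrArg Subtype.val hi⟩) (Subgroup.zpowers_le.2 htT)
  have htp : t ^ p = 1 := by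
    have h1 := T.orderOf_dvd_natCard htT
    rw [hTc] at h1
    exact orderOf_dvd_iff_pow_eq_one.1 h1
  have hlt : Nat.card (R ⧸ T) < n := by
    rw [← hn, Subgroup.card_eq_card_quotient_mul_card_subgroup T, hTc]
    exact lt_mul_of_one_lt_right Nat.card_pos hp.out.one_lt
  obtain ⟨N', hN'n, hN'c, hQc⟩ := ih _ hlt (R ⧸ T) rfl (hR.to_quotient T) (index_powSub_quotient h T)
  haveI := hN'n
  set π := QuotientGroup.mk' T
  set N := N'.comap π with hN
  obtain ⟨⟨n', hn'N⟩, hn'gen⟩ := hN'c.exists_generator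
  obtain ⟨a, rfl⟩ := QuotientGroup.mk'_surjective T n'
  obtain ⟨b', hb'⟩ := hQc.exists_generator
  obtain ⟨b₁, rfl⟩ := QuotientGroup.mk'_surjective N' b'
  obtain ⟨b, rfl⟩ := QuotientGroup.mk'_surjective T b₁
  have haN : a ∈ N := hn'N
  have hTN : T ≤ N := fun x hx => by
    show π x ∈ N'
    rw [show π x = 1 from (QuotientGroup.eq_one_iff x).2 hx]; exact one_mem _
  have hNgen : ∀ x ∈ N, ∃ i : ℤ, ∃ s ∈ T, x = a ^ i * s := fun x hx => by
    obtain ⟨i, hi⟩ := Subgroup.mem_zpowers_iff.1 (hn'gen ⟨π x, hx⟩)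
    refine ⟨i, (a ^ i)⁻¹ * x, (QuotientGroup.eq_one_iff _).1 ?_, by group⟩
    show π ((a ^ i)⁻¹ * x) = 1
    have hi' : π a ^ i = π x := congrArg Subtype.val hi
    rw [map_mul, map_inv, map_zpow, hi', inv_mul_cancel]
  have hTc' : ∀ s ∈ T, ∀ x : R, Commute s x := fun s hs x => (Subgroup.mem_center_iff.1 (hTz hs) x).symm
  have hNab : ∀ x ∈ N, ∀ y ∈ N, Commute x y := fun x hx y hy => by
    obtain ⟨i, s, hs, rfl⟩ := hNgen x hx
    obtain ⟨j, s', hs', rfl⟩ := hNgen y hy
    exact (Commute.mul_right (((Commute.refl a).zpow_right j).zpow_left i) (hTc' s' hs' _).symm).mul_left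
      (hTc' s hs _)
  have hgen : N ⊔ Subgroup.zpowers b = ⊤ := by
    refine eq_top_iff.2 fun r _ => ?_
    obtain ⟨i, hi⟩ := Subgroup.mem_zpowers_iff.1 (hb' (QuotientGroup.mk' N' (π r)))
    have hrN : r * (b ^ i)⁻¹ ∈ N := by
      show π (r * (b ^ i)⁻¹) ∈ N'
      rw [← QuotientGroup.eq_one_iff]
      show QuotientGroup.mk' N' (π (r * (b ^ i)⁻¹)) = 1
      rw [map_mul, map_mul, map_inv, map_inv, map_zpow, map_zpow, hi, mul_inv_cancel]
    have := Subgroup.mul_mem _ (Subgroup.mem_sup_left (T := Subgroup.zpowers b) hrN)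
      (Subgroup.mem_sup_right (zpow_mem (Subgroup.mem_zpowers b) i))
    rwa [inv_mul_cancel_right] at this
  by_cases hNc : IsCyclic N
  · exact ⟨N, inferInstance, hNc, isCyclic_quotient_of_gen N b hgen⟩
  -- otherwise the derived subgroup has order `p`
  set M := Subgroup.zpowers (a ^ p) ⊔ T with hM
  have hMmem : ∀ (i : ℤ) (s : R), s ∈ T → (a ^ i * s) ^ p = (a ^ p) ^ i := fun i s hs => by
    have hsp : s ^ p = 1 := by
      have h1 := T.orderOf_dvd_natCard hs
      rw [hTc] at h1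
      exact orderOf_dvd_iff_pow_eq_one.1 h1
    rw [(hTc' s hs _).symm.mul_pow, hsp, mul_one, ← zpow_natCast (a ^ i), ← zpow_mul, mul_comm i,
      zpow_mul, zpow_natCast]
  haveI hMn : M.Normal := by
    refine Subgroup.normalizer_eq_top_iff.1 (eq_top_iff.2 fun g _ => ?_)
    have key : ∀ g : R, ∀ x ∈ M, g * x * g⁻¹ ∈ M := by
      intro g x hx
      have hsub : M.map (MulAut.conj g).toMonoidHom ≤ M := by
        rw [hM, Subgroup.map_sup, MonoidHom.map_zpowers]
        refine sup_le (Subgroup.zpowers_le.2 ?_) ?_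
        · obtain ⟨i, s, hs, hgs⟩ := hNgen (g * a * g⁻¹) ((inferInstance : N.Normal).conj_mem a haN g)
          show g * a ^ p * g⁻¹ ∈ _
          rw [← conj_pow, hgs, hMmem i s hs]
          exact Subgroup.mem_sup_left (zpow_mem (Subgroup.mem_zpowers _) i)
        · rintro _ ⟨y, hy, rfl⟩
          exact Subgroup.mem_sup_right (hTn.conj_mem y hy g)
      exact hsub ⟨x, hx, rfl⟩
    exact Subgroup.mem_normalizer_iff.2 fun x => ⟨key g x, fun hx => by simpa [mul_assoc] using key g⁻¹ _ hx⟩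
  have hMN : M ≤ N := sup_le (Subgroup.zpowers_le.2 (pow_mem haN p)) hTN
  set c := ⁅b, a⁆ with hc
  have hcM : c ∈ M := by
    by_cases haM : a ∈ M
    · rw [hc, commutatorElement_def]
      exact mul_mem (hMn.conj_mem a haM b) (inv_mem haM)
    obtain ⟨L, -, hML, hLN, -, hcomL⟩ := NormalSteps.exists_normal_step hR
      (lt_of_le_of_ne hMN fun e => haM (e.symm ▸ haN))
    obtain ⟨x, hxL, hxM⟩ := SetLike.exists_of_lt hML
    obtain ⟨i, s, hs, rfl⟩ := hNgen x (hLN hxL)
    have hi : ¬ (p : ℤ) ∣ i := by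
      rintro ⟨k, rfl⟩
      refine hxM (mul_mem (Subgroup.mem_sup_left ?_) (Subgroup.mem_sup_right hs))
      rw [zpow_mul, zpow_natCast]
      exact zpow_mem (Subgroup.mem_zpowers _) k
    have haiL : a ^ i ∈ L := (L.mul_mem_cancel_right (hML.le (Subgroup.mem_sup_right hs))).1 hxL
    obtain ⟨u, v, huv⟩ := ((Nat.prime_iff_prime_int.1 hp.out).coprime_iff_not_dvd.2 hi)
    have haL : a ∈ L := by
      have h1 : a = (a ^ p) ^ u * (a ^ i) ^ v := by
        rw [← zpow_natCast a p, ← zpow_mul, ← zpow_mul, ← zpow_add, mul_comm, mul_comm i, huv, zpow_one]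
      rw [h1]
      exact mul_mem (zpow_mem (hML.le (Subgroup.mem_sup_left (Subgroup.mem_zpowers _))) u) (zpow_mem haiL v)
    exact hcomL b a haL
  obtain ⟨z, hz, s, hs, hcz⟩ := Subgroup.mem_sup_of_normal_right.1 hcM
  obtain ⟨k, rfl⟩ := Subgroup.mem_zpowers_iff.1 hz
  have hcN : c ∈ N := hMN hcM
  have hbc : b * c * b⁻¹ = c ^ ((p : ℤ) * k + 1) := by
    have hcomm : Commute c a := hNab c hcN a haN
    have h1 : b * a * b⁻¹ = c * a := by rw [hc, commutatorElement_def]; group
    calc b * c * b⁻¹ = b * ((a ^ p) ^ k * s) * b⁻¹ := by rw [hcz]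
      _ = (b * a * b⁻¹) ^ ((p : ℤ) * k) * s := by
          rw [conj_zpow, zpow_mul, zpow_natCast, mul_assoc _ b⁻¹ s, ← (hTc' s hs b⁻¹).eq]; group
      _ = c ^ ((p : ℤ) * k) * ((a ^ p) ^ k * s) := by
          rw [h1, hcomm.mul_zpow, zpow_mul a, zpow_natCast, mul_assoc]
      _ = c ^ ((p : ℤ) * k + 1) := by rw [hcz, zpow_add_one]
  have hCn : (Subgroup.zpowers c).Normal := by
    refine Subgroup.normalizer_eq_top_iff.1 (eq_top_iff.2 ?_)
    rw [← hgen]
    refine sup_le (fun x hx => ?_) (Subgroup.zpowers_le.2 ?_)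
    · refine Subgroup.centralizer_le_normalizer _ (Subgroup.mem_centralizer_iff.2 ?_)
      rintro _ ⟨i, rfl⟩
      exact ((hNab c hcN x hx).zpow_left i).eq
    · rw [Subgroup.mem_normalizer_iff_map_conj_eq, MonoidHom.map_zpowers]
      refine Subgroup.eq_of_le_of_card_ge (Subgroup.zpowers_le.2 ?_) ?_
      · show b * c * b⁻¹ ∈ _
        rw [hbc]; exact zpow_mem (Subgroup.mem_zpowers c) _
      · rw [Nat.card_zpowers, Nat.card_zpowers]
        exact le_of_eq (orderOf_injective (MulAut.conj b).toMonoidHom (MulAut.conj b).injective c).symm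
  haveI := hCn
  have hDc : commutator R ≤ Subgroup.zpowers c := by
    set q := QuotientGroup.mk' (Subgroup.zpowers c)
    have hba : Commute (q b) (q a) := by
      rw [commute_iff_eq, ← commutatorElement_eq_one_iff_mul_comm, ← map_commutatorElement]
      exact (QuotientGroup.eq_one_iff _).2 (Subgroup.mem_zpowers c)
    have hNb : ∀ x ∈ N, Commute (q b) (q x) := fun x hx => by
      obtain ⟨i, s, hs, rfl⟩ := hNgen x hx
      rw [map_mul, map_zpow]
      exact (hba.zpow_right i).mul_right ((hTc' s hs b).symm.map q)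
    rw [_root_.commutator_def, Subgroup.commutator_le]
    intro x _ y _
    rw [← QuotientGroup.eq_one_iff]
    show q ⁅x, y⁆ = 1
    rw [map_commutatorElement, commutatorElement_eq_one_iff_mul_comm]
    obtain ⟨x₁, hx₁, x₂, hx₂, rfl⟩ := Subgroup.mem_sup_of_normal_left.1 (hgen.ge (Subgroup.mem_top x))
    obtain ⟨y₁, hy₁, y₂, hy₂, rfl⟩ := Subgroup.mem_sup_of_normal_left.1 (hgen.ge (Subgroup.mem_top y))
    obtain ⟨i, rfl⟩ := Subgroup.mem_zpowers_iff.1 hx₂
    obtain ⟨j, rfl⟩ := Subgroup.mem_zpowers_iff.1 hy₂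
    simp only [map_mul, map_zpow]
    exact ((((hNab x₁ hx₁ y₁ hy₁).map q).mul_right (((hNb x₁ hx₁).zpow_left j).symm)).mul_left
      (((hNb y₁ hy₁).zpow_left i).mul_right (((Commute.refl (q b)).zpow_right j).zpow_left i))).eq
  -- the generator of `T` is a power of `c` with exponent prime to `p`
  obtain ⟨j, hj⟩ := Subgroup.mem_zpowers_iff.1 (hDc (hTD htT))
  have hj' : ¬ (p : ℤ) ∣ j := by
    rintro ⟨l, rfl⟩
    refine hNc ?_
    have hta : t ∈ Subgroup.zpowers a := by
      rw [← hj, zpow_mul, zpow_natCast, ← hcz, ← zpow_natCast a p, ← zpow_mul, hMmem _ s hs, ← zpow_natCast a p,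
        ← zpow_mul, ← zpow_mul]
      exact zpow_mem (Subgroup.mem_zpowers a) _
    have hNa : N = Subgroup.zpowers a := le_antisymm (fun x hx => by
      obtain ⟨i, s', hs', rfl⟩ := hNgen x hx
      exact mul_mem (zpow_mem (Subgroup.mem_zpowers a) i) (Subgroup.zpowers_le.2 hta (hTt.le hs')))
      (Subgroup.zpowers_le.2 haN)
    rw [hNa]; infer_instance
  obtain ⟨u, v, huv⟩ := ((Nat.prime_iff_prime_int.1 hp.out).coprime_iff_not_dvd.2 hj')
  -- hence `c` lies in `T`
  have hct : c ∈ Subgroup.zpowers t := by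
    obtain ⟨m, hm⟩ := IsPGroup.iff_orderOf.1 hR c
    have hd : (orderOf c : ℤ) ∣ j * p := by
      rw [orderOf_dvd_iff_zpow_eq_one, zpow_mul, hj, zpow_natCast, htp]
    have hd' : (orderOf c : ℤ) ∣ (p : ℤ) := by
      have hcop : IsCoprime ((orderOf c : ℤ)) j := by
        rw [hm, Nat.cast_pow]
        exact IsCoprime.pow_left ⟨u, v, huv⟩
      exact hcop.dvd_of_dvd_mul_left hd
    have hcp : c ^ (p : ℤ) = 1 := orderOf_dvd_iff_zpow_eq_one.1 hd'
    have h1 : c = t ^ v := by
      calc c = c ^ (u * (p : ℤ) + v * j) := by rw [huv, zpow_one]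
        _ = t ^ v := by rw [zpow_add, mul_comm u, zpow_mul, hcp, one_zpow, one_mul, mul_comm v, zpow_mul, hj]
    rw [h1]
    exact zpow_mem (Subgroup.mem_zpowers t) v
  refine isMetacyclic_of_commutator hp2 hR h (hTz htT) htp fun x y => Subgroup.zpowers_le.2 hct (hDc ?_)
  rw [_root_.commutator_def]; exact Subgroup.commutator_mem_commutator (Subgroup.mem_top x) (Subgroup.mem_top y)

theorem isMetacyclic {R : Type u} [Group R] [Finite R] (hp2 : p ≠ 2) (hR : IsPGroup p R)
    (h : (powSub p R).index ≤ p ^ 2) : Cfsg.IsMetacyclic R :=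
  isMetacyclic_aux hp2 _ R rfl hR h

/-- A `p`-central group of rank at most two is metacyclic. -/
theorem isMetacyclic_pCentral {R : Type u} [Group R] [Finite R] (hp2 : p ≠ 2) (hR : IsPGroup p R)
    (hc : PCentral p R) (hrk : Cfsg.PRankLE p 2 R) : Cfsg.IsMetacyclic R :=
  isMetacyclic hp2 hR ((index_powSub_le hp2 hR hc).trans (hrk (omega hc)
    ⟨⟨fun a b => Subtype.ext (mem_center_iff.1 (hc _ b.2) _)⟩⟩ fun _ ha => ha))

end Cfsg.Agent.Grp.Blackburn
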