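import Mathlib
import Cfsg.Agent.Lib.Grp.Blackburn.Huppert

/-!
Small facts on `p`-groups of rank at most two.
-/

set_option autoImplicit false

namespace Cfsg.Agent.Grp.Blackburn

open Subgroup
open scoped commutatorElement

variable {p : ℕ} [hp : Fact p.Prime]

/-- A normal `E` which is nonabelian of order `p ^ 3` and exponent `p`. -/
def HasBigOmega (p : ℕ) (R : Type*) [Group R] : Prop :=
  ∃ E : Subgroup R, E.Normal ∧ Nat.card E = p ^ 3 ∧ (∀ x ∈ E, x ^ p = 1) ∧
    ∃ x ∈ E, ∃ y ∈ E, x * y ≠ y * x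

theorem commutative_of_forall {R : Type*} [Group R] {H : Subgroup R} (h : ∀ a ∈ H, ∀ b ∈ H, a * b = b * a) :
    IsMulCommutative H :=
  ⟨⟨fun a b => Subtype.ext (h a a.2 b b.2)⟩⟩

/-- An element of order `p` centralizing an elementary abelian subgroup of order `p ^ 2` lies in it. -/
theorem mem_of_centralizes {R : Type*} [Group R] [Finite R] (hrk : Cfsg.PRankLE p 2 R) {A : Subgroup R}
    (hA : Nat.card A = p ^ 2) (hAc : ∀ a ∈ A, ∀ b ∈ A, a * b = b * a) (hAe : ∀ a ∈ A, a ^ p = 1)
    {v : R} (hv : v ^ p = 1) (hcomm : ∀ a ∈ A, v * a = a * v) : v ∈ A := by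
  set B := Subgroup.closure ((A : Set R) ∪ {v}) with hB
  have hgen : ∀ a ∈ ((A : Set R) ∪ {v}), ∀ b ∈ ((A : Set R) ∪ {v}), a * b = b * a := by
    rintro a (ha | rfl) b (hb | rfl)
    · exact hAc a ha b hb
    · exact (hcomm a ha).symm
    · exact hcomm b hb
    · rfl
  have hBab : IsMulCommutative B := Subgroup.isMulCommutative_closure hgen
  have hBe : ∀ b ∈ B, b ^ p = 1 := by
    intro b hb
    induction hb using Subgroup.closure_induction with
    | mem x hx =>
      rcases hx with hx | rfl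
      · exact hAe x hx
      · exact hv
    | one => exact one_pow p
    | mul x y hx hy h1 h2 =>
      have hc : Commute x y := congrArg Subtype.val (mul_comm' (⟨x, hx⟩ : B) ⟨y, hy⟩)
      rw [hc.mul_pow, h1, h2, one_mul]
    | inv x _ h1 => rw [inv_pow, h1, inv_one]
  have hle : A ≤ B := fun a ha => Subgroup.subset_closure (Or.inl ha)
  have heq := Subgroup.eq_of_le_of_card_ge hle ((hrk B hBab hBe).trans hA.ge)
  exact heq.ge (Subgroup.subset_closure (Or.inr rfl))

/-- In a cyclic group of order `p` all elements are powers of any nontrivial one. -/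
theorem exists_zpow_eq {R : Type*} [Group R] [Finite R] {Z : Subgroup R} (hZ : Nat.card Z = p) {z : R}
    (hz : z ∈ Z) (hz1 : z ≠ 1) {x : R} (hx : x ∈ Z) : ∃ i : ℤ, z ^ i = x := by
  have h : Subgroup.zpowers z = Z := by
    refine Subgroup.eq_of_le_of_card_ge (Subgroup.zpowers_le.2 hz) ?_
    have h1 := Z.orderOf_dvd_natCard hz
    rw [hZ] at h1
    rcases (Nat.dvd_prime hp.out).1 h1 with h2 | h2
    · exact absurd (orderOf_eq_one_iff.1 h2) hz1
    · rw [hZ, Nat.card_zpowers, h2]
  exact Subgroup.mem_zpowers_iff.1 (h.ge hx)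

theorem zpow_dvd_of_eq_one {R : Type*} [Group R] {z : R} (hz1 : z ≠ 1) (hzp : z ^ p = 1) {k : ℤ}
    (h : z ^ k = 1) : (p : ℤ) ∣ k := by
  have h1 := orderOf_dvd_iff_zpow_eq_one.2 h
  rwa [orderOf_eq_prime hzp hz1] at h1

end Cfsg.Agent.Grp.Blackburn
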