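import Mathlib
import Cfsg.Agent.Lib.Grp.Blackburn.Basic

/-!
`p`-groups of rank at most two with a normal subgroup of order `p ^ 3` and exponent `p`.
-/

set_option autoImplicit false
set_option maxHeartbeats 1000000

namespace Cfsg.Agent.Grp.Blackburn

open Subgroup
open scoped commutatorElement

variable {p : ℕ} [hp : Fact p.Prime]

/-- Conjugation by powers, when the commutator commutes with the conjugator. -/
theorem conj_zpow_of_commute {R : Type*} [Group R] {a b w : R} (h : a * b * a⁻¹ = w * b)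
    (hw : Commute a w) (n : ℤ) : a ^ n * b * (a ^ n)⁻¹ = w ^ n * b := by
  induction n using Int.induction_on with
  | zero => simp
  | succ i ih =>
    have hwi : a * w ^ (i : ℤ) * a⁻¹ = w ^ (i : ℤ) := by rw [(hw.zpow_right _).eq, mul_inv_cancel_right]
    calc a ^ ((i : ℤ) + 1) * b * (a ^ ((i : ℤ) + 1))⁻¹
        = a * (a ^ (i : ℤ) * b * (a ^ (i : ℤ))⁻¹) * a⁻¹ := by group
      _ = (a * w ^ (i : ℤ) * a⁻¹) * (a * b * a⁻¹) := by rw [ih]; group
      _ = w ^ ((i : ℤ) + 1) * b := by rw [hwi, h]; group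
  | pred i ih =>
    have hwi : a⁻¹ * w ^ (-(i : ℤ)) * a = w ^ (-(i : ℤ)) := by
      rw [(hw.inv_left.zpow_right _).eq, inv_mul_cancel_right]
    have h' : a⁻¹ * b * a = w⁻¹ * b := by
      have h1 : a⁻¹ * w * a = w := by rw [hw.inv_left.eq, inv_mul_cancel_right]
      rw [eq_inv_mul_iff_mul_eq]
      calc w * (a⁻¹ * b * a) = (a⁻¹ * w * a) * (a⁻¹ * b * a) := by rw [h1]
        _ = a⁻¹ * (w * b) * a := by group
        _ = b := by rw [← h]; group
    calc a ^ (-(i : ℤ) - 1) * b * (a ^ (-(i : ℤ) - 1))⁻¹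
        = a⁻¹ * (a ^ (-(i : ℤ)) * b * (a ^ (-(i : ℤ)))⁻¹) * a := by group
      _ = (a⁻¹ * w ^ (-(i : ℤ)) * a) * (a⁻¹ * b * a) := by rw [ih]; group
      _ = w ^ (-(i : ℤ) - 1) * b := by rw [hwi, h']; group

/-- Conjugation by powers, with a second order commutator. -/
theorem conj_pow_two {R : Type*} [Group R] {v h d e : R} (he : e ∈ center R) (h1 : v * h * v⁻¹ = d * h)
    (h2 : v * d * v⁻¹ = e * d) (n : ℕ) : v ^ n * h * (v ^ n)⁻¹ = e ^ n.choose 2 * d ^ n * h := by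
  induction n with
  | zero => simp
  | succ n ih =>
    have hed : ∀ j : ℕ, v * e ^ j * v⁻¹ = e ^ j := fun j => by
      rw [mem_center_iff.1 (pow_mem he j) v, mul_inv_cancel_right]
    have hc : Commute e d := (mem_center_iff.1 he d).symm
    calc v ^ (n + 1) * h * (v ^ (n + 1))⁻¹ = v * (v ^ n * h * (v ^ n)⁻¹) * v⁻¹ := by rw [pow_succ']; group
      _ = (v * e ^ n.choose 2 * v⁻¹) * (v * d * v⁻¹) ^ n * (v * h * v⁻¹) := by rw [ih, conj_pow]; group
      _ = e ^ (n.choose 2 + n) * d ^ (n + 1) * h := by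
          rw [hed, h2, h1, hc.mul_pow, pow_add, pow_succ d n]; simp only [mul_assoc]
      _ = _ := by rw [show (n + 1).choose 2 = n.choose 2 + n by
            rw [show (2 : ℕ) = 1 + 1 from rfl, Nat.choose_succ_succ' n 1, Nat.choose_one_right, add_comm]]

theorem exists_dvd_sub {k : ℤ} (hk : ¬ (p : ℤ) ∣ k) (i : ℤ) : ∃ a : ℤ, (p : ℤ) ∣ a * k - i := by
  obtain ⟨u, v, h⟩ := (Nat.prime_iff_prime_int.1 hp.out).coprime_iff_not_dvd.2 hk
  exact ⟨v * i, ⟨-(u * i), by linear_combination i * h⟩⟩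

theorem zpow_eq_of_dvd {R : Type*} [Group R] {c : R} (hc : c ^ p = 1) {i j : ℤ} (h : (p : ℤ) ∣ i - j) :
    c ^ i = c ^ j := by
  obtain ⟨l, hl⟩ := h
  rw [show i = j + (p : ℤ) * l by omega, zpow_add, zpow_mul, zpow_natCast, hc, one_zpow, mul_one]

/-- The two families. -/
def Families (p : ℕ) (R : Type*) [Group R] (n : ℕ) : Prop :=
  (3 ≤ n ∧ ∃ x y z : R, Subgroup.closure ({x, y, z} : Set R) = ⊤ ∧ x ^ p = 1 ∧ y ^ p = 1 ∧ z ^ p ^ (n - 2) = 1 ∧
      x * z = z * x ∧ y * z = z * y ∧ x⁻¹ * y * x = y * z ^ p ^ (n - 3)) ∨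
  (4 ≤ n ∧ ∃ (s : ℕ) (x y z : R), (s = 1 ∨ ¬ IsSquare (s : ZMod p)) ∧ Subgroup.closure ({x, y, z} : Set R) = ⊤ ∧
      x ^ p = 1 ∧ y ^ p = 1 ∧ z ^ p ^ (n - 2) = 1 ∧ y * z = z * y ∧ x⁻¹ * y * x = y * z ^ (s * p ^ (n - 3)) ∧
      x⁻¹ * z * x = y * z)

theorem sup_zpowers_eq {R : Type*} [Group R] [Finite R] {M N : Subgroup R} (hMN : M ≤ N)
    (hc : Nat.card N = p * Nat.card M) {v : R} (hv : v ∈ N) (hvM : v ∉ M) : M ⊔ zpowers v = N := by
  have hle : M ⊔ zpowers v ≤ N := sup_le hMN (zpowers_le.2 hv)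
  refine Subgroup.eq_of_le_of_card_ge hle ?_
  obtain ⟨a, ha⟩ := Subgroup.card_dvd_of_le (le_sup_left : M ≤ M ⊔ zpowers v)
  have h1 := Subgroup.card_dvd_of_le hle
  rw [hc, ha, mul_comm p] at h1
  rcases (Nat.dvd_prime hp.out).1 (Nat.dvd_of_mul_dvd_mul_left Nat.card_pos h1) with h2 | h2
  · have h3 := Subgroup.eq_of_le_of_card_ge (le_sup_left : M ≤ M ⊔ zpowers v) (by rw [ha, h2, mul_one])
    exact absurd (h3.symm ▸ mem_sup_right (mem_zpowers v)) hvM
  · rw [hc, ha, h2, mul_comm]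

theorem families {R : Type*} [Group R] [Finite R] (hp2 : p ≠ 2) (hR : IsPGroup p R)
    (hrk : Cfsg.PRankLE p 2 R) (n : ℕ) (hn : Nat.card R = p ^ n) (hE : HasBigOmega p R) :
    Families p R n := by
  classical
  obtain ⟨E, hEn, hEc, hEe, x₀, hx₀, y₀, hy₀, hxy₀⟩ := hE
  haveI := hEn
  have hp1 := hp.out.one_lt
  have hbot : (⊥ : Subgroup R) < E := bot_lt_iff_ne_bot.2 fun e => by
    rw [e, Subgroup.card_bot] at hEc
    have := Nat.one_lt_pow (three_ne_zero) hp1
    omega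
  obtain ⟨L, hLn, -, hLE, hLc, hLz⟩ := Transfer.NormalSteps.exists_normal_step hR hbot
  rw [Subgroup.card_bot, mul_one] at hLc
  haveI := hLn
  have hLcen : L ≤ center R := fun x hx => mem_center_iff.2 fun g =>
    commutatorElement_eq_one_iff_mul_comm.1 (mem_bot.1 (hLz g x hx))
  have hLE' : L < E := lt_of_le_of_ne hLE fun e => by
    rw [e, hEc] at hLc
    exact absurd (Nat.pow_right_injective hp.out.two_le (hLc.trans (pow_one p).symm)) (by norm_num)
  obtain ⟨Y, hYn, hLY, hYE, hYc, hYz⟩ := Transfer.NormalSteps.exists_normal_step hR hLE'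
  haveI := hYn
  have hYE' : Y < E := lt_of_le_of_ne hYE fun e => by
    rw [e, hEc, hLc, ← sq] at hYc
    exact absurd (Nat.pow_right_injective hp.out.two_le hYc) (by norm_num)
  obtain ⟨E', -, -, hE'E, hE'c, hE'z⟩ := Transfer.NormalSteps.exists_normal_step hR hYE'
  have hYc' : Nat.card Y = p ^ 2 := by rw [hYc, hLc, sq]
  have hEc' : Nat.card E = p * Nat.card Y := by rw [hEc, hYc', pow_succ' p 2]
  have hEeq : E' = E := Subgroup.eq_of_le_of_card_ge hE'E (by rw [hE'c, hEc'])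
  have hEz : ∀ g : R, ∀ e ∈ E, ⁅g, e⁆ ∈ Y := fun g e he => hE'z g e (hEeq ▸ he)
  obtain ⟨c, hcL, hc1⟩ : ∃ c ∈ L, c ≠ 1 := L.ne_bot_iff_exists_ne_one.1 (fun e => by
    rw [e, Subgroup.card_bot] at hLc; omega) |>.elim fun c hc => ⟨c, c.2, fun h => hc (Subtype.ext h)⟩
  have hcp : c ^ p = 1 := hEe c (hLE hcL)
  have hcc : c ∈ center R := hLcen hcL
  have hLgen : ∀ x ∈ L, ∃ i : ℤ, c ^ i = x := fun x hx => exists_zpow_eq hLc hcL hc1 hx
  have hcomc : ∀ (g : R) (i : ℤ), Commute g (c ^ i) := fun g i => mem_center_iff.1 (zpow_mem hcc i) g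
  have hcomL : ∀ g : R, ∀ l ∈ L, Commute g l := fun g l hl => mem_center_iff.1 (hLcen hl) g
  obtain ⟨y, hyY, hyL⟩ := SetLike.exists_of_lt hLY
  have hYgen : ∀ v ∈ Y, v ∉ L → ∀ u ∈ Y, ∃ l ∈ L, ∃ i : ℤ, u = l * v ^ i := by
    intro v hv hvL u hu
    obtain ⟨l, hl, q, hq, rfl⟩ := mem_sup_of_normal_left.1 ((sup_zpowers_eq hLY.le hYc hv hvL).ge hu)
    obtain ⟨i, rfl⟩ := mem_zpowers_iff.1 hq
    exact ⟨l, hl, i, rfl⟩
  have hYcomm : ∀ a : R, a * y = y * a → ∀ u ∈ Y, Commute a u := by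
    intro a ha u hu
    obtain ⟨l, hl, i, rfl⟩ := hYgen y hyY hyL u hu
    exact (hcomL a l hl).mul_right ((show Commute a y from ha).zpow_right i)
  have hYab : ∀ a ∈ Y, ∀ b ∈ Y, a * b = b * a := fun a ha b hb =>
    (hYcomm a (hYcomm y rfl a ha).symm.eq b hb).eq
  have hYe : ∀ a ∈ Y, a ^ p = 1 := fun a ha => hEe a (hYE ha)
  obtain ⟨x, hxE, hxY⟩ := SetLike.exists_of_lt hYE'
  have hxE' := sup_zpowers_eq hYE hEc' hxE hxY
  have hxy : x * y ≠ y * x := by
    intro h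
    have hEc1 : ∀ a : R, a * x = x * a → a * y = y * a → ∀ e ∈ E, Commute a e := by
      intro a hax hay e he
      obtain ⟨u, hu, q, hq, rfl⟩ := mem_sup_of_normal_left.1 (hxE'.ge he)
      obtain ⟨i, rfl⟩ := mem_zpowers_iff.1 hq
      exact (hYcomm a hay u hu).mul_right ((show Commute a x from hax).zpow_right i)
    exact hxy₀ ((hEc1 x₀ (hEc1 x rfl h x₀ hx₀).symm.eq (hEc1 y h.symm rfl x₀ hx₀).symm.eq y₀ hy₀).eq)
  set C := centralizer (E : Set R) with hC
  haveI hCn : C.Normal := by rw [hC]; exact Subgroup.normal_centralizer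
  have hmemC : ∀ a : R, a * x = x * a → a * y = y * a → a ∈ C := by
    intro a hax hay
    refine mem_centralizer_iff.2 fun e he => ?_
    obtain ⟨u, hu, q, hq, rfl⟩ := mem_sup_of_normal_left.1 (hxE'.ge he)
    obtain ⟨i, rfl⟩ := mem_zpowers_iff.1 hq
    exact ((hYcomm a hay u hu).mul_right ((show Commute a x from hax).zpow_right i)).eq.symm
  have hCx : ∀ a ∈ C, Commute a x := fun a ha => (mem_centralizer_iff.1 ha x hxE).symm
  have hCy : ∀ a ∈ C, Commute a y := fun a ha => (mem_centralizer_iff.1 ha y (hYE hyY)).symm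
  have hLC : L ≤ C := hLcen.trans (center_le_centralizer _)
  have hxYL : ∀ u ∈ Y, Commute x u → u ∈ L := by
    intro u hu hxu
    by_contra huL
    obtain ⟨l, hl, i, hi⟩ := hYgen u hu huL y hyY
    refine hxy ?_
    rw [hi]
    exact ((hcomL x l hl).mul_right (hxu.zpow_right i)).eq
  have homega : ∀ a ∈ C, a ^ p = 1 → a ∈ L := fun a ha hap =>
    hxYL a (mem_of_centralizes hrk hYc' hYab hYe hap fun u hu =>
      (hYcomm a (hCy a ha).eq u hu).eq) (hCx a ha).symm
  have hCP : IsPGroup p C := hR.to_subgroup C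
  have hCc : PCentral p C := fun a ha => mem_center_iff.2 fun b => Subtype.ext
    (hcomL b a (homega a a.2 (by simpa using congrArg Subtype.val ha))).eq
  haveI hCcyc : IsCyclic C := by
    refine isCyclic_of_omega hp2 hCP hCc (le_trans ?_ hLc.le)
    exact Nat.card_le_card_of_injective
      (fun a : {a : C // a ^ p = 1} => (⟨(a.1 : R), homega _ a.1.2 (by simpa using congrArg Subtype.val a.2)⟩ : L))
      (fun a b h => Subtype.ext (Subtype.ext (congrArg Subtype.val h :)))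
  obtain ⟨⟨g, hgC⟩, hg'⟩ := IsCyclic.exists_generator (α := C)
  have hCg : C = zpowers g := le_antisymm (fun a ha => by
    obtain ⟨i, hi⟩ := mem_zpowers_iff.1 (hg' ⟨a, ha⟩)
    exact ⟨i, congrArg Subtype.val hi⟩) (zpowers_le.2 hgC)
  have hCab : ∀ a ∈ C, ∀ b ∈ C, Commute a b := by
    intro a ha b hb
    rw [hCg] at ha hb
    obtain ⟨i, rfl⟩ := ha
    obtain ⟨j, rfl⟩ := hb
    exact ((Commute.refl g).zpow_left i).zpow_right j
  obtain ⟨m, hm⟩ := IsPGroup.iff_orderOf.1 hR g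
  have hm1 : 1 ≤ m := by
    by_contra h
    rw [show m = 0 by omega, pow_zero, orderOf_eq_one_iff] at hm
    refine hc1 ?_
    have := hCg.le (hLC hcL)
    rwa [hm, zpowers_one_eq_bot, mem_bot] at this
  -- commutators with `x` and `y`
  obtain ⟨k, hk⟩ := hLgen _ (hYz x y hyY)
  have hk' : ¬ (p : ℤ) ∣ k := fun h => hxy (commutatorElement_eq_one_iff_mul_comm.1 (by
    rw [← hk, zpow_eq_of_dvd hcp (j := 0) (by simpa using h), zpow_zero]))
  have hxyx : x * y * x⁻¹ = c ^ k * y := by rw [hk, commutatorElement_def]; group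
  have hyxy : y * x * y⁻¹ = c ^ (-k) * x := by
    rw [zpow_neg, hk, commutatorElement_def]; group
  have hcpow : ∀ a b : ℤ, (p : ℤ) ∣ a - b → c ^ a = c ^ b := fun a b h => zpow_eq_of_dvd hcp h
  have hEC : ∀ r : R, ⁅r, x⁆ ∈ L → r ∈ E ⊔ zpowers g := by
    intro r hr
    obtain ⟨i, hi⟩ := hLgen _ hr
    obtain ⟨j, hj⟩ := hLgen _ (hYz r y hyY)
    obtain ⟨α, hα⟩ := exists_dvd_sub (k := -k) (by simpa using hk') i
    obtain ⟨β, hβ⟩ := exists_dvd_sub hk' j
    set e := y ^ α * x ^ β with he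
    have hex : e * x * e⁻¹ = r * x * r⁻¹ := by
      calc e * x * e⁻¹ = y ^ α * (x ^ β * x * (x ^ β)⁻¹) * (y ^ α)⁻¹ := by rw [he]; group
        _ = y ^ α * x * (y ^ α)⁻¹ := by group
        _ = (c ^ (-k)) ^ α * x := conj_zpow_of_commute hyxy (hcomc y _) α
        _ = c ^ i * x := by rw [← zpow_mul, hcpow (-k * α) i (by rwa [mul_comm])]
        _ = _ := by rw [hi, commutatorElement_def]; group
    have hey : e * y * e⁻¹ = r * y * r⁻¹ := by
      calc e * y * e⁻¹ = y ^ α * (x ^ β * y * (x ^ β)⁻¹) * (y ^ α)⁻¹ := by rw [he]; group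
        _ = y ^ α * ((c ^ k) ^ β * y) * (y ^ α)⁻¹ := by rw [conj_zpow_of_commute hxyx (hcomc x k) β]
        _ = (c ^ k) ^ β * y := by
            rw [← zpow_mul, ← mul_assoc (y ^ α), (hcomc (y ^ α) (k * β)).eq]; group
        _ = c ^ j * y := by rw [← zpow_mul, hcpow (k * β) j (by rwa [mul_comm])]
        _ = _ := by rw [hj, commutatorElement_def]; group
    have hmem : e⁻¹ * r ∈ C := by
      refine hmemC _ ?_ ?_
      · calc e⁻¹ * r * x = e⁻¹ * (r * x * r⁻¹) * r := by group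
          _ = e⁻¹ * (e * x * e⁻¹) * r := by rw [hex]
          _ = x * (e⁻¹ * r) := by group
      · calc e⁻¹ * r * y = e⁻¹ * (r * y * r⁻¹) * r := by group
          _ = e⁻¹ * (e * y * e⁻¹) * r := by rw [hey]
          _ = y * (e⁻¹ * r) := by group
    have h1 := mul_mem (mem_sup_left (T := zpowers g)
      (mul_mem (zpow_mem (hYE hyY) α) (zpow_mem hxE β) : e ∈ E)) (mem_sup_right (hCg ▸ hmem : e⁻¹ * r ∈ zpowers g))
    rwa [mul_inv_cancel_left] at h1
  have hCE : C ⊓ E = L := le_antisymm (fun a ha => homega a ha.1 (hEe a ha.2)) (le_inf hLC hLE)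
  have hgm : g ^ p ^ m = 1 := by rw [← hm, pow_orderOf_eq_one]
  have hgd1 : g ^ p ^ (m - 1) ≠ 1 := by
    intro h
    have h1 := orderOf_dvd_of_pow_eq_one h
    rw [hm] at h1
    have := (Nat.pow_dvd_pow_iff_le_right hp1).1 h1
    omega
  have hgdL : g ^ p ^ (m - 1) ∈ L := homega _ (pow_mem hgC _) (by
    rw [← pow_mul, ← pow_succ, Nat.sub_add_cancel hm1, hgm])
  by_cases hA : ∀ r : R, ⁅r, x⁆ ∈ L
  · left
    have htop : zpowers g ⊔ E = ⊤ := by rw [sup_comm]; exact eq_top_iff.2 fun r _ => hEC r (hA r)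
    have hn' : n = m + 2 := by
      have h := Grp.card_sup_mul_card_inf_normal (H := zpowers g) (N := E)
      rw [htop, Subgroup.card_top, ← hCg, hCE, hLc, hn, hEc, hCg, Nat.card_zpowers, hm, ← pow_succ, ← pow_add] at h
      have := Nat.pow_right_injective hp.out.two_le h
      omega
    obtain ⟨k₂, hk₂⟩ := hLgen _ (hYz x⁻¹ y hyY)
    obtain ⟨l, hl⟩ := exists_zpow_eq hLc hgdL hgd1 (zpow_mem hcL k₂)
    have hl' : ¬ (p : ℤ) ∣ l := by
      intro h
      refine hxy ?_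
      have h1 : ⁅x⁻¹, y⁆ = 1 := by
        rw [← hk₂, ← hl, zpow_eq_of_dvd (j := 0) (by rw [← pow_mul, ← pow_succ, Nat.sub_add_cancel hm1, hgm])
          (by simpa using h), zpow_zero]
      exact (Commute.inv_left_iff.1 (show Commute x⁻¹ y from commutatorElement_eq_one_iff_mul_comm.1 h1)).eq
    refine ⟨by omega, x, y, g ^ l, ?_, hEe x hxE, hYe y hyY, ?_,
      ((hCx g hgC).symm.zpow_right l).eq, ((hCy g hgC).symm.zpow_right l).eq, ?_⟩
    · set K := Subgroup.closure ({x, y, g ^ l} : Set R) with hK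
      have hgK : g ∈ K := by
        obtain ⟨u, v, huv⟩ := ((Nat.prime_iff_prime_int.1 hp.out).coprime_iff_not_dvd.2 hl').pow_left (m := m)
        have hg1 : g = (g ^ l) ^ v := by
          rw [← zpow_mul]
          nth_rewrite 1 [← zpow_one g]
          rw [← huv, zpow_add, mul_comm u, mul_comm v, zpow_mul, show g ^ ((p : ℤ) ^ m) = 1 by
            rw [show (p : ℤ) ^ m = ((p ^ m : ℕ) : ℤ) by push_cast; rfl, zpow_natCast, hgm], one_zpow, one_mul]
        rw [hg1]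
        exact zpow_mem (Subgroup.subset_closure (by simp)) v
      have hLK : L ≤ K := fun a ha => (zpowers_le.2 hgK) (hCg ▸ hLC ha)
      have hYK : Y ≤ K := (sup_zpowers_eq hLY.le hYc hyY hyL).symm.le.trans
        (sup_le hLK (zpowers_le.2 (Subgroup.subset_closure (by simp))))
      have hEK : E ≤ K := hxE'.symm.le.trans (sup_le hYK (zpowers_le.2 (Subgroup.subset_closure (by simp))))
      exact eq_top_iff.2 (htop.symm.le.trans (sup_le (zpowers_le.2 hgK) hEK))
    · rw [← zpow_natCast (g ^ l), ← zpow_mul, mul_comm, zpow_mul, zpow_natCast, show n - 2 = m by omega, hgm,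
        one_zpow]
    · rw [show (g ^ l) ^ p ^ (n - 3) = (g ^ p ^ (m - 1)) ^ l by
        rw [← zpow_natCast (g ^ l), ← zpow_mul, mul_comm, zpow_mul, zpow_natCast, show n - 3 = m - 1 by omega],
        hl, (hcomc y k₂).eq, hk₂, commutatorElement_def]
      group
  right
  push Not at hA
  obtain ⟨r, hr⟩ := hA
  obtain ⟨j, hj⟩ := hLgen _ (hYz r y hyY)
  obtain ⟨β, hβ⟩ := exists_dvd_sub hk' (-j)
  set v := x ^ β * r with hv
  have hvy : Commute v y := by
    have : v * y * v⁻¹ = y := by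
      calc v * y * v⁻¹ = x ^ β * (r * y * r⁻¹) * (x ^ β)⁻¹ := by rw [hv]; group
        _ = x ^ β * (c ^ j * y) * (x ^ β)⁻¹ := by rw [hj, commutatorElement_def]; group
        _ = c ^ j * (x ^ β * y * (x ^ β)⁻¹) := by
            rw [← mul_assoc (x ^ β), (hcomc (x ^ β) j).eq]; group
        _ = c ^ (j + k * β) * y := by
            rw [conj_zpow_of_commute hxyx (hcomc x k) β, ← mul_assoc, ← zpow_mul, ← zpow_add]
        _ = y := by rw [hcpow (j + k * β) 0 (by rw [sub_zero, add_comm, mul_comm]; simpa using hβ), zpow_zero, one_mul]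
    exact mul_inv_eq_iff_eq_mul.1 this
  set w := ⁅v, x⁆ with hwdef
  have hwY : w ∈ Y := hEz v x hxE
  have hwv : Commute v w := hYcomm v hvy.eq w hwY
  have hvx : v * x * v⁻¹ = w * x := by rw [hwdef, commutatorElement_def]; group
  have hwL : w ∉ L := by
    intro h
    refine hr ?_
    have h1 : ⁅r, x⁆ = (x ^ β)⁻¹ * w * x ^ β := by rw [hwdef, hv, commutatorElement_def, commutatorElement_def]; group
    rw [h1, (hcomL (x ^ β)⁻¹ w h).eq, mul_assoc, inv_mul_cancel, mul_one]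
    exact h
  have hvpC : v ^ p ∈ C := by
    refine hmemC _ ?_ (hvy.pow_left p).eq
    have h := conj_zpow_of_commute hvx hwv (p : ℤ)
    rw [zpow_natCast, zpow_natCast, hYe w hwY, one_mul, mul_inv_eq_iff_eq_mul] at h
    exact h
  have hvnot : ∀ u ∈ E ⊔ zpowers g, ⁅u, x⁆ ∈ L := by
    intro u hu
    obtain ⟨e, he, q, hq, rfl⟩ := mem_sup_of_normal_left.1 hu
    obtain ⟨e₁, he₁, q₁, hq₁, rfl⟩ := mem_sup_of_normal_left.1 (hxE'.ge he)
    obtain ⟨i, rfl⟩ := mem_zpowers_iff.1 hq₁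
    have h1 : ⁅e₁ * x ^ i * q, x⁆ = ⁅x, e₁⁆⁻¹ := by
      have h2 : Commute (x ^ i * q) x := ((Commute.refl x).zpow_left i).mul_left (hCx q (hCg.symm ▸ hq))
      rw [commutatorElement_def, show e₁ * x ^ i * q * x = e₁ * (x ^ i * q * x) by group, h2.eq,
        commutatorElement_def]
      group
    rw [h1]
    exact inv_mem (hYz x e₁ he₁)
  obtain ⟨j₀, hj₀⟩ := mem_zpowers_iff.1 (hCg.le hvpC)
  have hj₀' : ¬ (p : ℤ) ∣ j₀ := by
    rintro ⟨l, hl⟩
    have hd : ∀ (o : ℕ), ∀ h ∈ C, orderOf h = o → ⁅v, h⁆ ∈ L := by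
      intro o
      induction o using Nat.strong_induction_on with
      | _ o ih =>
      intro h hh ho
      by_cases hh1 : h = 1
      · rw [hh1, commutatorElement_one_right]; exact one_mem L
      have hlt : orderOf (h ^ p) < o := by
        obtain ⟨a, ha⟩ := IsPGroup.iff_orderOf.1 hR h
        have ha0 : a ≠ 0 := fun e => hh1 (orderOf_eq_one_iff.1 (by rw [ha, e, pow_zero]))
        rw [orderOf_pow_of_dvd hp.out.ne_zero (ha ▸ dvd_pow_self p ha0), ← ho]
        exact Nat.div_lt_self (orderOf_pos h) hp1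
      have hd1 := ih _ hlt (h ^ p) (pow_mem hh p) rfl
      set d := ⁅v, h⁆ with hd
      have hdC : d ∈ C := mul_mem (hCn.conj_mem h hh v) (inv_mem hh)
      have hpow : ∀ a ∈ C, ⁅v, a ^ p⁆ = ⁅v, a⁆ ^ p := fun a ha => by
        rw [commutatorElement_def, commutatorElement_def,
          (hCab _ (hCn.conj_mem a ha v) _ (inv_mem ha)).mul_pow, conj_pow, inv_pow]
      have hdp : d ^ p ∈ L := hpow h hh ▸ hd1
      set e := ⁅v, d⁆ with he
      have heL : e ∈ L := homega e (mul_mem (hCn.conj_mem d hdC v) (inv_mem hdC)) (by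
        rw [← hpow d hdC, commutatorElement_eq_one_iff_mul_comm]; exact (hcomL v _ hdp).eq)
      have hconj := conj_pow_two (hLcen heL) (show v * h * v⁻¹ = d * h by rw [hd, commutatorElement_def]; group)
        (show v * d * v⁻¹ = e * d by rw [he, commutatorElement_def]; group) p
      obtain ⟨q, hq⟩ := hp.out.dvd_choose_self two_ne_zero (lt_of_le_of_ne hp.out.two_le hp2.symm)
      rw [hq, pow_mul, hEe e (hLE heL), one_pow, one_mul, (hCab _ hvpC h hh).eq, mul_inv_cancel_right] at hconj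
      exact homega d hdC (mul_eq_right.1 hconj.symm)
    set q := (g ^ l)⁻¹ with hq
    have hqC : q ∈ C := inv_mem (zpow_mem hgC l)
    have hc2 : ⁅q, v⁆ ∈ L := by rw [← commutatorElement_inv]; exact inv_mem (hd _ q hqC rfl)
    have hv' : (v * q) ^ p = 1 := by
      rw [mul_pow_of_comm hp2 (hLcen hc2) (hEe _ (hLE hc2)), hq, inv_pow, ← zpow_natCast (g ^ l), ← zpow_mul,
        mul_comm l, ← hl, hj₀, mul_inv_cancel]
    have hY' : v * q ∈ Y := mem_of_centralizes hrk hYc' hYab hYe hv' fun u hu =>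
      ((hYcomm v hvy.eq u hu).mul_left (hYcomm q (hCy q hqC).eq u hu)).eq
    refine hwL ?_
    have h1 : w = ⁅v * q, x⁆ := by
      rw [hwdef, commutatorElement_def, commutatorElement_def, show v * q * x = v * (q * x) by group,
        (hCx q hqC).eq]
      group
    rw [h1, ← commutatorElement_inv]
    exact inv_mem (hYz x _ hY')
  -- now `v ^ p` generates the centralizer
  obtain ⟨uu, vv, huv⟩ := ((Nat.prime_iff_prime_int.1 hp.out).coprime_iff_not_dvd.2 hj₀').pow_left (m := m)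
  have hgv : g = (v ^ p) ^ vv := by
    rw [← hj₀, ← zpow_mul]
    nth_rewrite 1 [← zpow_one g]
    rw [← huv, zpow_add, mul_comm uu, mul_comm vv, zpow_mul, show g ^ ((p : ℤ) ^ m) = 1 by
      rw [show (p : ℤ) ^ m = ((p ^ m : ℕ) : ℤ) by push_cast; rfl, zpow_natCast, hgm], one_zpow, one_mul]
  have hgV : g ∈ zpowers v := hgv ▸ zpow_mem (pow_mem (mem_zpowers v) p) vv
  have htop : zpowers v ⊔ E = ⊤ := by
    refine eq_top_iff.2 fun u _ => ?_
    obtain ⟨l, hl, i, hi⟩ := hYgen w hwY hwL _ (hEz u x hxE)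
    have h1 : (v ^ i)⁻¹ * u ∈ E ⊔ zpowers g := by
      refine hEC _ ?_
      have h2 : u * x * u⁻¹ = v ^ i * (l * x) * (v ^ i)⁻¹ := by
        calc u * x * u⁻¹ = ⁅u, x⁆ * x := by rw [commutatorElement_def]; group
          _ = l * (w ^ i * x) := by rw [hi, mul_assoc]
          _ = l * (v ^ i * x * (v ^ i)⁻¹) := by rw [conj_zpow_of_commute hvx hwv i]
          _ = v ^ i * (l * x) * (v ^ i)⁻¹ := by
              rw [← mul_assoc (v ^ i) l, (hcomL (v ^ i) l hl).eq]; group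
      have h3 : ⁅(v ^ i)⁻¹ * u, x⁆ = l := by
        calc ⁅(v ^ i)⁻¹ * u, x⁆ = (v ^ i)⁻¹ * (u * x * u⁻¹) * v ^ i * x⁻¹ := by rw [commutatorElement_def]; group
          _ = l := by rw [h2]; group
      rw [h3]
      exact hl
    have h4 : E ⊔ zpowers g ≤ zpowers v ⊔ E := sup_le le_sup_right (le_sup_of_le_left (zpowers_le.2 hgV))
    have := mul_mem (mem_sup_left (T := E) (zpow_mem (mem_zpowers v) i)) (h4 h1)
    rwa [mul_inv_cancel_left] at this
  have hinf : zpowers v ⊓ E = L := by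
    refine le_antisymm ?_ (le_inf (fun a ha => (zpowers_le.2 hgV) (hCg ▸ hLC ha)) hLE)
    rintro a ⟨ha, haE⟩
    obtain ⟨i, rfl⟩ := mem_zpowers_iff.1 ha
    by_cases hi : (p : ℤ) ∣ i
    · obtain ⟨i', rfl⟩ := hi
      refine hCE.le ⟨?_, haE⟩
      rw [zpow_mul, zpow_natCast]
      exact zpow_mem hvpC i'
    · obtain ⟨a', b', hab⟩ := (Nat.prime_iff_prime_int.1 hp.out).coprime_iff_not_dvd.2 hi
      refine absurd (hvnot v ?_) hwL
      have hv1 : v = (v ^ p) ^ a' * (v ^ i) ^ b' := by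
        rw [← zpow_natCast v, ← zpow_mul, ← zpow_mul, ← zpow_add, mul_comm (p : ℤ), mul_comm i, hab, zpow_one]
      rw [hv1]
      have haE' : v ^ i ∈ E := haE
      exact mul_mem (mem_sup_right (hCg ▸ zpow_mem hvpC a')) (mem_sup_left (zpow_mem haE' b'))
  have hovp : orderOf (v ^ p) = p ^ m := by
    rw [← hm]
    refine dvd_antisymm ?_ ?_
    · rw [← hj₀]
      exact orderOf_dvd_iff_pow_eq_one.2 (by
        rw [← zpow_natCast (g ^ j₀), ← zpow_mul, mul_comm, zpow_mul, zpow_natCast, pow_orderOf_eq_one, one_zpow])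
    · nth_rewrite 1 [hgv]
      exact orderOf_dvd_iff_pow_eq_one.2 (by
        rw [← zpow_natCast ((v ^ p) ^ vv), ← zpow_mul, mul_comm, zpow_mul, zpow_natCast, pow_orderOf_eq_one, one_zpow])
  have hov : orderOf v = p ^ (m + 1) := by
    obtain ⟨a, ha⟩ := IsPGroup.iff_orderOf.1 hR v
    have ha0 : a ≠ 0 := fun e => by
      rw [e, pow_zero, orderOf_eq_one_iff] at ha
      exact hwL (by rw [hwdef, ha, commutatorElement_one_left]; exact one_mem L)
    rw [orderOf_pow_of_dvd hp.out.ne_zero (ha ▸ dvd_pow_self p ha0)] at hovp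
    rw [← Nat.div_mul_cancel (ha ▸ dvd_pow_self p ha0 : p ∣ orderOf v), hovp, ← pow_succ]
  have hn' : n = m + 3 := by
    have h := Grp.card_sup_mul_card_inf_normal (H := zpowers v) (N := E)
    rw [htop, Subgroup.card_top, hinf, hLc, hn, hEc, Nat.card_zpowers, hov, ← pow_succ, ← pow_add] at h
    have := Nat.pow_right_injective hp.out.two_le h
    omega
  -- the scaling
  set c' := v ^ p ^ m with hc'
  have hc'L : c' ∈ L := homega _ (by
    rw [hc', ← Nat.sub_add_cancel hm1, pow_succ', pow_mul]; exact pow_mem hvpC _) (by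
    rw [hc', ← pow_mul, ← pow_succ, ← hov, pow_orderOf_eq_one])
  have hc'1 : c' ≠ 1 := by
    intro h
    have h1 := orderOf_dvd_of_pow_eq_one h
    rw [hov] at h1
    have := (Nat.pow_dvd_pow_iff_le_right hp1).1 h1
    omega
  obtain ⟨K, hK⟩ := exists_zpow_eq hLc hc'L hc'1 (hYz x⁻¹ w hwY)
  have hc'p : c' ^ p = 1 := hEe _ (hLE hc'L)
  have hK' : ((K : ZMod p)) ≠ 0 := by
    intro h
    rw [ZMod.intCast_zmod_eq_zero_iff_dvd] at h
    refine hwL (hxYL w hwY ?_)
    have h1 : ⁅x⁻¹, w⁆ = 1 := by rw [← hK, zpow_eq_of_dvd hc'p (j := 0) (by simpa using h), zpow_zero]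
    exact Commute.inv_left_iff.1 (show Commute x⁻¹ w from commutatorElement_eq_one_iff_mul_comm.1 h1)
  obtain ⟨t, s, hs, hts, ht0⟩ : ∃ (t s : ℕ), (s = 1 ∨ ¬ IsSquare (s : ZMod p)) ∧
      ((p : ℤ) ∣ K * t * t - s) ∧ ¬ (p : ℤ) ∣ (t : ℤ) := by
    by_cases hsq : IsSquare (K : ZMod p)
    · obtain ⟨q, hq⟩ := hsq
      have hq0 : q ≠ 0 := fun e => hK' (by rw [hq, e, mul_zero])
      refine ⟨(q⁻¹).val, 1, Or.inl rfl, ?_, ?_⟩
      · rw [← ZMod.intCast_zmod_eq_zero_iff_dvd]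
        push_cast
        rw [ZMod.natCast_zmod_val, hq]
        field_simp
        ring
      · rw [← ZMod.intCast_zmod_eq_zero_iff_dvd]
        push_cast
        rw [ZMod.natCast_zmod_val]
        exact inv_ne_zero hq0
    · refine ⟨1, (K : ZMod p).val, Or.inr (by rwa [ZMod.natCast_zmod_val]), ?_, ?_⟩
      · rw [← ZMod.intCast_zmod_eq_zero_iff_dvd]
        push_cast
        rw [ZMod.natCast_zmod_val]
        ring
      · intro h
        have := Int.le_of_dvd (by norm_num) h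
        omega
  set x' := x ^ t with hx'
  set y' := x'⁻¹ * v * x' * v⁻¹ with hy'
  have hy'Y : y' ∈ Y := by
    have : y' = ⁅v, x'⁻¹⁆⁻¹ := by rw [hy', commutatorElement_def]; group
    rw [this]
    exact inv_mem (hEz v _ (inv_mem (pow_mem hxE t)))
  have hxwx : x⁻¹ * w * (x⁻¹)⁻¹ = c' ^ K * w := by rw [hK, commutatorElement_def]; group
  have hc'c : ∀ (g : R) (i : ℤ), Commute g (c' ^ i) := fun g i => hcomL g _ (zpow_mem hc'L i)
  have hwt : x'⁻¹ * w ^ t * x' = c' ^ (K * t * t) * w ^ t := by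
    have h1 := conj_zpow_of_commute hxwx (hc'c _ K) (t : ℤ)
    rw [zpow_natCast, inv_pow, inv_inv, ← hx'] at h1
    rw [← zpow_mul] at h1
    have h2 : x'⁻¹ * w ^ t * x' = (x'⁻¹ * w * x') ^ t := by
      rw [show x'⁻¹ * w * x' = x'⁻¹ * w * (x'⁻¹)⁻¹ by rw [inv_inv], conj_pow, inv_inv]
    rw [h2, h1, (hc'c w (K * t)).symm.mul_pow, ← zpow_natCast (c' ^ (K * t)) t, ← zpow_mul]
  obtain ⟨l, hl, hy'eq⟩ : ∃ l ∈ L, y' = l * w ^ t := by
    have hcm : ⁅x, w⁆ ∈ L := hYz x w hwY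
    have h1 := Grp.mul_pow_class_two (x := w) (y := x) (c := ⁅x, w⁆) (by rw [commutatorElement_def]; group)
      (hcomL w _ hcm).symm (hcomL x _ hcm).symm t
    refine ⟨⁅x, w⁆ ^ t.choose 2 * (c' ^ (K * t * t)), mul_mem (pow_mem hcm _) (zpow_mem hc'L _), ?_⟩
    have h2 : v * x' * v⁻¹ = (w * x) ^ t := by rw [hx', ← conj_pow, hvx]
    calc y' = x'⁻¹ * (v * x' * v⁻¹) := by rw [hy']; group
      _ = (x'⁻¹ * ⁅x, w⁆ ^ t.choose 2) * (w ^ t * x') := by rw [h2, h1, ← hx']; simp only [mul_assoc]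
      _ = ⁅x, w⁆ ^ t.choose 2 * (x'⁻¹ * w ^ t * x') := by
          rw [(hcomL x'⁻¹ _ (pow_mem hcm _)).eq]; simp only [mul_assoc]
      _ = _ := by rw [hwt]; simp only [mul_assoc]
  have hy'v : Commute y' v := (hYcomm v hvy.eq y' hy'Y).symm
  have hxy' : x'⁻¹ * y' * x' = y' * c' ^ (K * t * t) := by
    rw [hy'eq, (hc'c (l * w ^ t) (K * t * t)).eq, show x'⁻¹ * (l * w ^ t) * x' = (x'⁻¹ * l) * (w ^ t * x') by group,
      (hcomL x'⁻¹ l hl).eq, show l * x'⁻¹ * (w ^ t * x') = l * (x'⁻¹ * w ^ t * x') by group, hwt,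
      ← mul_assoc, (hc'c l (K * t * t)).eq, mul_assoc]
  refine ⟨by omega, s, x', y', v, hs, ?_, ?_, hYe y' hy'Y, ?_, hy'v.eq, ?_, ?_⟩
  · set M := Subgroup.closure ({x', y', v} : Set R) with hM
    have hvM : v ∈ M := Subgroup.subset_closure (by simp)
    have hx'M : x' ∈ M := Subgroup.subset_closure (by simp)
    have hxM : x ∈ M := by
      obtain ⟨a', b', hab⟩ := (Nat.prime_iff_prime_int.1 hp.out).coprime_iff_not_dvd.2 ht0
      have hx1 : x = x' ^ b' := by
        rw [hx', ← zpow_natCast x t, ← zpow_mul]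
        nth_rewrite 1 [← zpow_one x]
        rw [← hab, zpow_add, mul_comm a', mul_comm b', zpow_mul, zpow_natCast, hEe x hxE, one_zpow, one_mul]
      rw [hx1]
      exact zpow_mem hx'M b'
    have hwM : w ∈ M := mul_mem (mul_mem (mul_mem hvM hxM) (inv_mem hvM)) (inv_mem hxM)
    have hLM : L ≤ M := fun a ha => (zpowers_le.2 hvM) (hinf.ge ha).1
    have hYM : Y ≤ M := (sup_zpowers_eq hLY.le hYc hwY hwL).symm.le.trans (sup_le hLM (zpowers_le.2 hwM))
    have hEM : E ≤ M := hxE'.symm.le.trans (sup_le hYM (zpowers_le.2 hxM))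
    exact eq_top_iff.2 (htop.symm.le.trans (sup_le (zpowers_le.2 hvM) hEM))
  · rw [hx', ← pow_mul, mul_comm, pow_mul, hEe x hxE, one_pow]
  · rw [show n - 2 = m + 1 by omega, ← hov, pow_orderOf_eq_one]
  · rw [show s * p ^ (n - 3) = p ^ m * s by rw [mul_comm, show n - 3 = m by omega], pow_mul, ← hc',
      ← zpow_natCast c' s, ← zpow_eq_of_dvd hc'p hts]
    exact hxy'
  · rw [hy', inv_mul_cancel_right]

end Cfsg.Agent.Grp.Blackburn
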