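import Mathlib
import Cfsg.Agent.Lib.Grp.Blackburn.Extraspecial
import Cfsg.Agent.Lib.Fus.MetacyclicTwoAut
import Cfsg.Agent.Lib.Fus.Metacyclic
import Cfsg.Agent.S0638
import Cfsg.Agent.S0662
import Cfsg.Agent.S0112
import Cfsg.Agent.Lib.Transfer.NormalSteps

/-!
Automorphisms of order `p` of metacyclic `p`-groups without cyclic subgroups of index `p`.
-/

set_option autoImplicit false
set_option maxHeartbeats 1000000

namespace Cfsg.Agent.Grp.Blackburn

open Subgroup
open scoped commutatorElement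

variable {p : ℕ} [hp : Fact p.Prime]

/-- A cyclic subgroup in which every element has order dividing `k` has order at most `k`. -/
theorem card_le_of_cyclic {G : Type*} [Group G] {H : Subgroup G} (hc : IsCyclic H) {k : ℕ} (hk : 0 < k)
    (h : ∀ x ∈ H, x ^ k = 1) : Nat.card H ≤ k := by
  obtain ⟨g, hg⟩ := hc.exists_generator
  rw [← orderOf_eq_card_of_forall_mem_zpowers hg]
  exact orderOf_le_of_pow_eq_one hk (Subtype.ext (by simpa using h g g.2))

theorem isCyclic_of_le {G : Type*} [Group G] {H K : Subgroup G} (hHK : H ≤ K) (hK : IsCyclic K) : IsCyclic H :=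
  isCyclic_of_injective (Subgroup.inclusion hHK) (Subgroup.inclusion_injective hHK)

/-- The subgroups `{x | x ^ p = 1}` and `{x | x ^ p ^ 2 = 1}`. -/
structure OmegaPair (p : ℕ) (L : Type*) [Group L] where
  U : Subgroup L
  D : Subgroup L
  mem_U : ∀ x, x ∈ U ↔ x ^ p = 1
  mem_D : ∀ x, x ∈ D ↔ x ^ p ∈ U
  card_U : Nat.card U = p ^ 2
  comm : ∀ x ∈ D, ∀ y ∈ D, ⁅x, y⁆ ∈ U
  central : ∀ u ∈ U, ∀ x ∈ D, Commute u x
  root : ∀ u ∈ U, ∃ x ∈ D, x ^ p = u

theorem exists_omegaPair {L : Type*} [Group L] [Finite L] (hp2 : p ≠ 2) (hL : IsPGroup p L)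
    (hmc : Cfsg.IsMetacyclic L) (hnc : ∀ C : Subgroup L, IsCyclic C → C.index ≠ p) (hL1 : Nat.card L ≠ 1) :
    Nonempty (OmegaPair p L) := by
  have hp0 := hp.out.pos
  have hncyc : ¬ IsCyclic L := by
    intro hc
    obtain ⟨g, hg⟩ := hc.exists_generator
    have hog := orderOf_eq_card_of_forall_mem_zpowers hg
    obtain ⟨k, hk⟩ := IsPGroup.iff_card.1 hL
    have hk0 : k ≠ 0 := fun e => hL1 (by rw [hk, e, pow_zero])
    refine hnc (zpowers (g ^ p)) inferInstance ?_
    have h := (zpowers (g ^ p)).card_mul_index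
    rw [Nat.card_zpowers, orderOf_pow_of_dvd hp.out.ne_zero (by rw [hog, hk]; exact dvd_pow_self p hk0), hog, hk,
      ← Nat.sub_add_cancel (Nat.one_le_iff_ne_zero.2 hk0), pow_succ, Nat.mul_div_cancel _ hp0] at h
    exact Nat.eq_of_mul_eq_mul_left (pow_pos hp0 _) h
  obtain ⟨hUel, hUc⟩ := S0638.result hp2 hL hmc hncyc
  set U := Cfsg.omegaOne p (⊤ : Subgroup L) with hU
  have hmemU : ∀ x, x ∈ U ↔ x ^ p = 1 := fun x =>
    ⟨fun hx => hUel.2 x hx, fun hx => Subgroup.subset_closure ⟨mem_top x, hx⟩⟩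
  haveI hUn : U.Normal := ⟨fun x hx g => (hmemU _).2 (by
    rw [conj_pow, (hmemU x).1 hx, mul_one, mul_inv_cancel])⟩
  obtain ⟨N, hNn, hNc, hQc⟩ := id hmc
  haveI := hNn
  have hQncyc : ¬ IsCyclic (L ⧸ U) := by
    intro hc
    obtain ⟨q, hq⟩ := hc.exists_generator
    obtain ⟨g, rfl⟩ := QuotientGroup.mk_surjective q
    have htop : zpowers g ⊔ U = ⊤ := eq_top_iff.2 fun r _ => by
      obtain ⟨i, hi⟩ := mem_zpowers_iff.1 (hq (r : L ⧸ U))
      rw [← QuotientGroup.mk_zpow, QuotientGroup.eq] at hi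
      have h1 := mul_mem (mem_sup_left (T := U) (zpow_mem (mem_zpowers g) i)) (mem_sup_right hi)
      rwa [mul_inv_cancel_left] at h1
    by_cases hg1 : g = 1
    · -- then `L = U`
      have hUtop : U = ⊤ := by
        rw [hg1, zpowers_one_eq_bot, bot_sup_eq] at htop
        exact htop
      obtain ⟨u, hu⟩ : ∃ u : L, u ≠ 1 := by
        by_contra h
        push Not at h
        haveI : Subsingleton L := ⟨fun x y => (h x).trans (h y).symm⟩
        exact hL1 (Nat.card_of_subsingleton (1 : L))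
      refine hnc (zpowers u) inferInstance ?_
      have h := (zpowers u).card_mul_index
      rw [Nat.card_zpowers, orderOf_eq_prime ((hmemU u).1 (hUtop ▸ mem_top u)) hu] at h
      rw [hUtop, Subgroup.card_top] at hUc
      rw [hUc, sq] at h
      exact Nat.eq_of_mul_eq_mul_left hp0 h
    refine hnc (zpowers g) inferInstance ?_
    have h := Grp.card_sup_mul_card_inf_normal (H := zpowers g) (N := U)
    rw [htop, Subgroup.card_top] at h
    have h1 : Nat.card ↥(zpowers g ⊓ U) = p := by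
      refine le_antisymm (card_le_of_cyclic (isCyclic_of_le inf_le_left inferInstance) hp0
        fun x hx => (hmemU x).1 hx.2) ?_
      obtain ⟨k, hk⟩ := IsPGroup.iff_orderOf.1 hL g
      have hk0 : k ≠ 0 := fun e => hg1 (orderOf_eq_one_iff.1 (by rw [hk, e, pow_zero]))
      have hk1 : k - 1 + 1 = k := Nat.sub_add_cancel (Nat.one_le_iff_ne_zero.2 hk0)
      have hx : g ^ p ^ (k - 1) ∈ zpowers g ⊓ U := ⟨pow_mem (mem_zpowers g) _, (hmemU _).2 (by
        rw [← pow_mul, ← pow_succ, hk1, ← hk, pow_orderOf_eq_one])⟩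
      refine Nat.le_of_dvd Nat.card_pos ?_
      have h2 := (zpowers g ⊓ U).orderOf_dvd_natCard hx
      rwa [orderOf_eq_prime (p := p) ((hmemU _).1 hx.2) (fun e => by
        have := orderOf_dvd_of_pow_eq_one e
        rw [hk] at this
        have := (Nat.pow_dvd_pow_iff_le_right hp.out.one_lt).1 this
        omega)] at h2
    rw [h1, hUc, ← (zpowers g).card_mul_index, sq, ← mul_assoc] at h
    have h3 : Nat.card (zpowers g) * p * (zpowers g).index = Nat.card (zpowers g) * p * p := by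
      calc Nat.card (zpowers g) * p * (zpowers g).index = Nat.card (zpowers g) * (zpowers g).index * p := by ring
        _ = _ := by linarith
    exact Nat.eq_of_mul_eq_mul_left (Nat.mul_pos Nat.card_pos hp0) h3
  have hQm := Fus.MetaTwo.isMetacyclic_quotient hmc U
  obtain ⟨hVel, hVc⟩ := S0638.result hp2 (hL.to_quotient U) hQm hQncyc
  set D := (Cfsg.omegaOne p (⊤ : Subgroup (L ⧸ U))).comap (QuotientGroup.mk' U) with hD
  have hmemD : ∀ x, x ∈ D ↔ x ^ p ∈ U := fun x => by
    rw [hD, mem_comap, ← QuotientGroup.eq_one_iff (N := U) (x ^ p)]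
    exact ⟨fun hx => by simpa using hVel.2 _ hx, fun hx => Subgroup.subset_closure ⟨mem_top _, by simpa using hx⟩⟩
  have hUD : U ≤ D := fun x hx => (hmemD x).2 (pow_mem hx p)
  have hcomm : ∀ x ∈ D, ∀ y ∈ D, ⁅x, y⁆ ∈ U := fun x hx y hy => by
    rw [← QuotientGroup.eq_one_iff]
    show QuotientGroup.mk' U ⁅x, y⁆ = 1
    rw [map_commutatorElement, commutatorElement_eq_one_iff_mul_comm]
    exact congrArg Subtype.val (hVel.1.is_comm.comm ⟨_, hx⟩ ⟨_, hy⟩)
  have hDc : Nat.card D = p ^ 4 := by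
    have h1 := D.card_mul_index
    rw [hD, Subgroup.index_comap_of_surjective _ (QuotientGroup.mk'_surjective U), ← hD] at h1
    have h2 := (Cfsg.omegaOne p (⊤ : Subgroup (L ⧸ U))).card_mul_index
    rw [hVc] at h2
    have h3 := U.card_mul_index
    rw [hUc, Subgroup.index, ← h2, ← h1, ← mul_assoc, ← pow_add] at h3
    exact (Nat.eq_of_mul_eq_mul_right (Nat.pos_of_ne_zero Subgroup.index_ne_zero_of_finite) h3).symm
  -- two generators
  set f := (QuotientGroup.mk' N).comp D.subtype with hf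
  have hsq : ∀ x ∈ D, x ^ p ^ 2 = 1 := fun x hx => by
    rw [sq, pow_mul]; exact (hmemU _).1 ((hmemD x).1 hx)
  have hKc : IsCyclic ↥(D ⊓ N) := isCyclic_of_le inf_le_right hNc
  have hker : Nat.card f.ker = Nat.card ↥(D ⊓ N) := by
    rw [hf, ← MonoidHom.comap_ker, QuotientGroup.ker_mk', inf_comm]
    rw [show N.comap D.subtype = (N ⊓ D).subgroupOf D by rw [Subgroup.inf_subgroupOf_right]; rfl]
    exact Nat.card_congr (Subgroup.subgroupOfEquivOfLe (inf_le_right : N ⊓ D ≤ D)).toEquiv
  have hrc : IsCyclic f.range := isCyclic_of_le le_top (isCyclic_of_injective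
    (⊤ : Subgroup (L ⧸ N)).subtype (Subgroup.subtype_injective _))
  have hrange : Nat.card f.range ≤ p ^ 2 := card_le_of_cyclic hrc (pow_pos hp0 2) (by
    rintro _ ⟨x, rfl⟩
    rw [← map_pow, show x ^ p ^ 2 = 1 from Subtype.ext (by simpa using hsq x x.2), map_one])
  have hkle : Nat.card ↥(D ⊓ N) ≤ p ^ 2 := card_le_of_cyclic hKc (pow_pos hp0 2) fun x hx => hsq x hx.1
  have hprod : Nat.card ↥(D ⊓ N) * Nat.card f.range = p ^ 4 := by
    rw [← hker, ← Subgroup.index_ker, Subgroup.card_mul_index, hDc]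
  obtain ⟨⟨s, hs⟩, hsgen⟩ := hKc.exists_generator
  obtain ⟨⟨_, b, rfl⟩, hbgen⟩ := hrc.exists_generator
  have hrge : p ^ 2 ≤ Nat.card f.range := by
    by_contra h
    have := Nat.mul_lt_mul_of_le_of_lt hkle (not_le.1 h) (pow_pos hp0 2)
    rw [hprod, ← pow_add] at this
    exact lt_irrefl _ this
  have hdec : ∀ x ∈ D, ∃ i j : ℤ, x = (b : L) ^ i * s ^ j := by
    intro x hx
    obtain ⟨i, hi⟩ := mem_zpowers_iff.1 (hbgen ⟨f ⟨x, hx⟩, ⟨_, rfl⟩⟩)
    have hi' : (QuotientGroup.mk' N (b : L)) ^ i = QuotientGroup.mk' N x := congrArg Subtype.val hi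
    rw [← map_zpow, QuotientGroup.mk'_apply, QuotientGroup.mk'_apply, QuotientGroup.eq] at hi'
    have hmem : ((b : L) ^ i)⁻¹ * x ∈ D ⊓ N := ⟨D.mul_mem (D.inv_mem (D.zpow_mem b.2 i)) hx, hi'⟩
    obtain ⟨j, hj⟩ := mem_zpowers_iff.1 (hsgen ⟨_, hmem⟩)
    have hj' : s ^ j = ((b : L) ^ i)⁻¹ * x := congrArg Subtype.val hj
    exact ⟨i, j, by rw [hj', mul_inv_cancel_left]⟩
  -- the commutator of the generators is central
  set c := ⁅(b : L), s⁆ with hc
  have hcU : c ∈ U := hcomm _ b.2 _ hs.1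
  have hcK : c ∈ D ⊓ N := ⟨hUD hcU, N.mul_mem (hNn.conj_mem s hs.2 _) (N.inv_mem hs.2)⟩
  have hcs : Commute c s := congrArg Subtype.val (hKc.commutative.is_comm.comm (⟨c, hcK⟩ : ↥(D ⊓ N)) ⟨s, hs⟩)
  have hsp : Commute (b : L) (s ^ p) := by
    refine mul_inv_eq_iff_eq_mul.1 ?_
    rw [← conj_pow, show (b : L) * s * (b : L)⁻¹ = c * s by rw [hc, commutatorElement_def]; group, hcs.mul_pow,
      (hmemU c).1 hcU, one_mul]
  have hsp0 : s ^ p ≠ 1 := by
    intro e
    have hk : Nat.card ↥(D ⊓ N) ≤ p := by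
      refine card_le_of_cyclic hKc hp0 fun x hx => ?_
      obtain ⟨j, hj⟩ := mem_zpowers_iff.1 (hsgen ⟨x, hx⟩)
      rw [← show s ^ j = x from congrArg Subtype.val hj, ← zpow_natCast, ← zpow_mul, mul_comm, zpow_mul, zpow_natCast,
        e, one_zpow]
    have := Nat.mul_le_mul hk hrange
    rw [hprod, ← pow_succ'] at this
    exact absurd ((Nat.pow_le_pow_iff_right hp.out.one_lt).1 this) (by norm_num)
  have hcsp : c ∈ zpowers (s ^ p) := by
    have hle : zpowers (s ^ p) ≤ D ⊓ N ⊓ U := zpowers_le.2 ⟨pow_mem hs p, (hmemD s).1 hs.1⟩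
    have h1 : Nat.card ↥(D ⊓ N ⊓ U) ≤ Nat.card ↥(zpowers (s ^ p)) := by
      rw [Nat.card_zpowers, orderOf_eq_prime ((hmemU _).1 ((hmemD s).1 hs.1)) hsp0]
      exact card_le_of_cyclic (isCyclic_of_le inf_le_left hKc) hp0 fun x hx => (hmemU x).1 hx.2
    exact (Subgroup.eq_of_le_of_card_ge hle h1).ge ⟨hcK, hcU⟩
  have hcb : Commute (b : L) c := by
    obtain ⟨i, hi⟩ := mem_zpowers_iff.1 hcsp
    rw [← hi]; exact hsp.zpow_right i
  have hbps : Commute ((b : L) ^ p) s := by
    have h := conj_zpow_of_commute (show (b : L) * s * (b : L)⁻¹ = c * s by rw [hc, commutatorElement_def]; group)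
      hcb (p : ℤ)
    rw [zpow_natCast, zpow_natCast, (hmemU c).1 hcU, one_mul] at h
    exact mul_inv_eq_iff_eq_mul.1 h
  have hbp : (b : L) ^ p ∉ zpowers (s ^ p) := by
    intro hbp
    have h1 : Nat.card f.range ≤ p := by
      refine card_le_of_cyclic hrc hp0 fun y hy => ?_
      obtain ⟨i, hi⟩ := mem_zpowers_iff.1 (hbgen ⟨y, hy⟩)
      have hbN : (QuotientGroup.mk' N (b : L)) ^ p = 1 := by
        rw [← map_pow]
        exact (QuotientGroup.eq_one_iff _).2 ((zpowers_le.2 (N.pow_mem hs.2 p)) hbp)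
      rw [← show (QuotientGroup.mk' N (b : L)) ^ i = y from congrArg Subtype.val hi, ← zpow_natCast, ← zpow_mul,
        mul_comm, zpow_mul, zpow_natCast, hbN, one_zpow]
    have := hrge.trans h1
    nlinarith [hp.out.one_lt]
  have hUgen : zpowers (s ^ p) ⊔ zpowers ((b : L) ^ p) = U := by
    refine sup_zpowers_eq' (zpowers_le.2 ((hmemD s).1 hs.1)) ?_ ((hmemD _).1 b.2) hbp
    rw [hUc, Nat.card_zpowers, orderOf_eq_prime ((hmemU _).1 ((hmemD s).1 hs.1)) hsp0, sq]
  have hcen : ∀ u ∈ U, ∀ x ∈ D, Commute u x := by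
    intro u hu x hx
    obtain ⟨i, j, rfl⟩ := hdec x hx
    have h1 : zpowers (s ^ p) ⊔ zpowers ((b : L) ^ p) ≤ centralizer ({(b : L) ^ i * s ^ j} : Set L) := by
      refine sup_le (zpowers_le.2 (mem_centralizer_singleton_iff.2 ?_)) (zpowers_le.2 (mem_centralizer_singleton_iff.2 ?_))
      · exact ((hsp.symm.zpow_right i).mul_right ((Commute.pow_self s p).zpow_right j)).eq
      · exact (((Commute.pow_self (b : L) p).zpow_right i).mul_right (hbps.zpow_right j)).eq
    exact mem_centralizer_singleton_iff.1 (h1 (hUgen.ge hu))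
  refine ⟨⟨U, D, hmemU, hmemD, hUc, hcomm, hcen, fun u hu => ?_⟩⟩
  let ψ : D →* U := MonoidHom.mk' (fun x => ⟨(x : L) ^ p, (hmemD _).1 x.2⟩) fun x y => Subtype.ext (by
    have hcy := hcomm _ y.2 _ x.2
    have h := Grp.mul_pow_class_two (x := (x : L)) (y := (y : L)) (c := ⁅(y : L), (x : L)⁆)
      (by rw [commutatorElement_def]; group) (hcen _ hcy _ x.2) (hcen _ hcy _ y.2) p
    obtain ⟨q, hq⟩ := hp.out.dvd_choose_self two_ne_zero (lt_of_le_of_ne hp.out.two_le hp2.symm)
    rw [hq, pow_mul, (hmemU _).1 hcy, one_pow, one_mul] at h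
    simpa using h)
  have hψk : ψ.ker = U.subgroupOf D := by
    ext x
    rw [MonoidHom.mem_ker, mem_subgroupOf, hmemU]
    exact Subtype.ext_iff
  have hψ : ψ.range = ⊤ := by
    refine Subgroup.eq_top_of_card_eq _ ?_
    have h := ψ.ker.card_mul_index
    rw [Subgroup.index_ker, hψk, Nat.card_congr (Subgroup.subgroupOfEquivOfLe hUD).toEquiv, hUc, hDc,
      show (4 : ℕ) = 2 + 2 from rfl, pow_add] at h
    rw [hUc]
    exact Nat.eq_of_mul_eq_mul_left (pow_pos hp0 2) h
  obtain ⟨x, hx⟩ := hψ.ge (mem_top ⟨u, hu⟩)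
  exact ⟨x, x.2, congrArg Subtype.val hx⟩
where
  sup_zpowers_eq' {R : Type _} [Group R] [Finite R] {M N : Subgroup R} (hMN : M ≤ N)
      (hc : Nat.card N = p * Nat.card M) {v : R} (hv : v ∈ N) (hvM : v ∉ M) : M ⊔ zpowers v = N := by
    have hle : M ⊔ zpowers v ≤ N := sup_le hMN (zpowers_le.2 hv)
    refine Subgroup.eq_of_le_of_card_ge hle ?_
    obtain ⟨a, ha⟩ := Subgroup.card_dvd_of_le (le_sup_left : M ≤ M ⊔ zpowers v)
    have h1 := Subgroup.card_dvd_of_le hle
    rw [hc, ha, mul_comm p] at h1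
    rcases (Nat.dvd_prime hp.out).1 (Nat.dvd_of_mul_dvd_mul_left Nat.card_pos h1) with h2 | h2
    · have h3 := Subgroup.eq_of_le_of_card_ge (le_sup_left : M ≤ M ⊔ zpowers v) (by rw [ha, h2, mul_one])
      exact absurd (h3.symm ▸ mem_sup_right (mem_zpowers v)) hvM
    · rw [hc, ha, h2, mul_comm]

/-- Iterating an automorphism on an element with two orders of displacement. -/
theorem aut_iter {L : Type*} [Group L] (φ : MulAut L) {b w f z S : L} {e e' : ℕ} (hb : φ b = w * S * b)
    (hw : φ w = z ^ e * w) (hS : φ S = f * S) (hf : φ f = z ^ e' * f) (hz : φ z = z)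
    (c1 : Commute z w) (c2 : Commute z f) (c3 : Commute z S) (c4 : Commute w f) (c5 : Commute w S)
    (c6 : Commute f S) (n : ℕ) :
    (φ ^ n) b = z ^ (n.choose 2 * e + n.choose 3 * e') * w ^ n * f ^ n.choose 2 * S ^ n * b := by
  induction n with
  | zero => simp
  | succ n ih =>
    set A := n.choose 2 * e + n.choose 3 * e' with hA
    set C := n.choose 2 with hC
    rw [pow_succ', MulAut.mul_apply, ih, map_mul, map_mul, map_mul, map_mul, map_pow, map_pow, map_pow, map_pow, hz,
      hw, hf, hS, hb, (c1.pow_left e).mul_pow, (c2.pow_left e').mul_pow, c6.mul_pow, ← pow_mul, ← pow_mul]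
    have hexp : (n + 1).choose 2 * e + (n + 1).choose 3 * e' = A + e * n + e' * C := by
      rw [hA, hC, show (2 : ℕ) = 1 + 1 from rfl, show (3 : ℕ) = 2 + 1 from rfl, Nat.choose_succ_succ' n 1,
        Nat.choose_succ_succ' n 2, Nat.choose_one_right]
      ring
    have hexp2 : (n + 1).choose 2 = C + n := by
      rw [hC, show (2 : ℕ) = 1 + 1 from rfl, Nat.choose_succ_succ' n 1, Nat.choose_one_right]
      ring
    rw [hexp, hexp2]
    calc z ^ A * (z ^ (e * n) * w ^ n) * (z ^ (e' * C) * f ^ C) * (f ^ n * S ^ n) * (w * S * b)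
        = z ^ A * z ^ (e * n) * (w ^ n * z ^ (e' * C)) * (f ^ C * f ^ n) * (S ^ n * w) * S * b := by
          simp only [mul_assoc]
      _ = z ^ A * z ^ (e * n) * (z ^ (e' * C) * w ^ n) * f ^ (C + n) * (w * S ^ n) * S * b := by
          rw [((c1.pow_pow (e' * C) n)).eq, ← pow_add f, (c5.pow_right n).eq]
      _ = z ^ A * z ^ (e * n) * z ^ (e' * C) * w ^ n * (f ^ (C + n) * w) * S ^ n * S * b := by
          simp only [mul_assoc]
      _ = z ^ A * z ^ (e * n) * z ^ (e' * C) * w ^ n * (w * f ^ (C + n)) * S ^ n * S * b := by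
          rw [(c4.pow_right (C + n)).eq]
      _ = _ := by
          rw [pow_add z (A + e * n), pow_add z A, pow_succ w, pow_succ S]
          simp only [mul_assoc]

theorem exists_pow_eq {R : Type*} [Group R] [Finite R] {Z : Subgroup R} (hZ : Nat.card Z = p) {z : R}
    (hz : z ∈ Z) (hz1 : z ≠ 1) {x : R} (hx : x ∈ Z) : ∃ i : ℕ, z ^ i = x := by
  classical
  obtain ⟨i, hi⟩ := exists_zpow_eq hZ hz hz1 hx
  have h1 : x ∈ Subgroup.zpowers z := ⟨i, hi⟩
  rw [mem_zpowers_iff_mem_range_orderOf] at h1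
  obtain ⟨j, -, hj⟩ := Finset.mem_image.1 h1
  exact ⟨j, hj⟩

theorem metacyclic_aut_iff {L : Type*} [Group L] [Finite L] (hp2 : p ≠ 2) (hL : IsPGroup p L)
    (hmc : Cfsg.IsMetacyclic L) (hnc : ∀ C : Subgroup L, IsCyclic C → C.index ≠ p)
    (a : MulAut L) (ha : orderOf a = p) (m : ℕ) (hm : Nat.card L = p ^ m) :
    (∃ x : L, orderOf x = p ∧ a x ≠ x) ↔
      (p = 3 ∧ Group.nilpotencyClass (SemidirectProduct L ↥(zpowers a) (zpowers a).subtype) = m) := by
  classical
  have hL1 : Nat.card L ≠ 1 := by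
    intro h
    haveI : Subsingleton L := (Nat.card_eq_one_iff_unique.1 h).1
    have : a = 1 := MulEquiv.ext fun x => Subsingleton.elim _ _
    rw [this, orderOf_one] at ha
    exact hp.out.one_lt.ne ha
  obtain ⟨P⟩ := exists_omegaPair hp2 hL hmc hnc hL1
  set R := SemidirectProduct L ↥(zpowers a) (zpowers a).subtype with hR
  haveI : Finite R := Finite.of_equiv _ SemidirectProduct.equivProd.symm
  have hRc : Nat.card R = p ^ (m + 1) := by
    rw [hR, SemidirectProduct.card, hm, Nat.card_zpowers, ha, pow_succ]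
  have hRp : IsPGroup p R := IsPGroup.of_card hRc
  let ι : L →* R := SemidirectProduct.inl
  have hι : Function.Injective ι := SemidirectProduct.inl_injective
  set t : R := SemidirectProduct.inr (⟨a, mem_zpowers a⟩ : zpowers a) with ht
  have htι : ∀ x, t * ι x * t⁻¹ = ι (a x) := fun x => by
    rw [ht, ← map_inv]
    exact (SemidirectProduct.inl_aut _ x).symm
  have hdec : ∀ r : R, ∃ (x : L) (i : ℤ), r = ι x * t ^ i := fun r => by
    obtain ⟨i, hi⟩ := mem_zpowers_iff.1 r.right.2
    refine ⟨r.left, i, ?_⟩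
    rw [ht, ← map_zpow, show ((⟨a, mem_zpowers a⟩ : zpowers a)) ^ i = r.right from Subtype.ext (by simpa using hi)]
    exact (SemidirectProduct.inl_left_mul_inr_right r).symm
  have hnorm : ∀ K : Subgroup L, K.Normal → (∀ ψ : MulAut L, ∀ x ∈ K, ψ x ∈ K) → (K.map ι).Normal := by
    intro K hK hinv
    refine ⟨fun y hy r => ?_⟩
    obtain ⟨x, hx, rfl⟩ := hy
    obtain ⟨l, i, rfl⟩ := hdec r
    refine ⟨l * (a ^ i) x * l⁻¹, hK.conj_mem _ (hinv _ x hx) l, ?_⟩
    have h1 : t ^ i * ι x * (t ^ i)⁻¹ = ι ((a ^ i) x) := by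
      rw [ht, ← map_zpow, ← map_inv]
      exact ((SemidirectProduct.inl_aut _ x).symm).trans (by simp; rfl)
    rw [map_mul, map_mul, map_inv, ← h1, mul_inv_rev]
    simp only [mul_assoc]
  have hUinv : ∀ ψ : MulAut L, ∀ x ∈ P.U, ψ x ∈ P.U := fun ψ x hx => (P.mem_U _).2 (by
    rw [← map_pow, (P.mem_U x).1 hx, map_one])
  have hDinv : ∀ ψ : MulAut L, ∀ x ∈ P.D, ψ x ∈ P.D := fun ψ x hx => (P.mem_D _).2 (by
    rw [← map_pow]; exact hUinv ψ _ ((P.mem_D x).1 hx))
  have hUn : P.U.Normal := ⟨fun x hx g => (P.mem_U _).2 (by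
    rw [conj_pow, (P.mem_U x).1 hx, mul_one, mul_inv_cancel])⟩
  set V := P.U.map ι with hV
  haveI hVn : V.Normal := hnorm _ hUn hUinv
  have hVc : Nat.card V = p ^ 2 := by rw [hV, Subgroup.card_map_of_injective hι, P.card_U]
  constructor
  · rintro ⟨x₀, hx₀, hax₀⟩
    obtain ⟨L₁, hL₁n, -, hL₁V, hL₁c, hL₁z⟩ := Transfer.NormalSteps.exists_normal_step hRp
      (M := (⊥ : Subgroup R)) (N := V) (bot_lt_iff_ne_bot.2 fun e => by
        rw [e, Subgroup.card_bot] at hVc
        exact (Nat.one_lt_pow two_ne_zero hp.out.one_lt).ne hVc)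
    rw [Subgroup.card_bot, mul_one] at hL₁c
    haveI := hL₁n
    obtain ⟨L₂, -, -, hL₂V, hL₂c, hL₂z⟩ := Transfer.NormalSteps.exists_normal_step hRp
      (M := L₁) (N := V) (lt_of_le_of_ne hL₁V fun e => by
        rw [e, hVc] at hL₁c
        exact absurd (Nat.pow_right_injective hp.out.two_le (hL₁c.trans (pow_one p).symm)) (by norm_num))
    have hL₂eq : L₂ = V := Subgroup.eq_of_le_of_card_ge hL₂V (by rw [hL₂c, hL₁c, hVc, sq])
    set Z := L₁.comap ι with hZdef
    have hZmap : Z.map ι = L₁ := Subgroup.map_comap_eq_self (hL₁V.trans (map_le_range ι P.U))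
    have hZc : Nat.card Z = p := by rw [← hL₁c, ← hZmap, Subgroup.card_map_of_injective hι]
    have hZU : ∀ x ∈ Z, x ∈ P.U := fun x hx => by
      obtain ⟨y, hy, hyx⟩ := hL₁V hx
      rwa [← hι hyx]
    obtain ⟨z, hzZ, hz1⟩ : ∃ z ∈ Z, z ≠ 1 := by
      by_contra h
      push Not at h
      rw [(Subgroup.eq_bot_iff_forall Z).2 h, Subgroup.card_bot] at hZc
      exact hp.out.one_lt.ne hZc
    have haz : a z = z := hι (by
      rw [← htι, mul_inv_eq_iff_eq_mul]
      exact commutatorElement_eq_one_iff_mul_comm.1 (mem_bot.1 (hL₁z t _ hzZ)))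
    have hzU := hZU z hzZ
    have hzp : z ^ p = 1 := (P.mem_U z).1 hzU
    have hmove : ∀ x ∈ P.U, ∃ e : ℕ, a x = z ^ e * x := by
      intro x hx
      have h1 : ⁅t, ι x⁆ ∈ L₁ := hL₂z t _ (hL₂eq.ge (mem_map_of_mem ι hx))
      rw [commutatorElement_def, htι, ← map_inv, ← map_mul] at h1
      obtain ⟨e, he⟩ := exists_pow_eq hZc hzZ hz1 (show a x * x⁻¹ ∈ Z from h1)
      exact ⟨e, by rw [he, inv_mul_cancel_right]⟩
    have hx₀U : x₀ ∈ P.U := (P.mem_U x₀).2 (by rw [← hx₀, pow_orderOf_eq_one])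
    obtain ⟨k, hk⟩ := hmove x₀ hx₀U
    have hzk : z ^ k ≠ 1 := fun e => hax₀ (by rw [hk, e, one_mul])
    obtain ⟨b, hbD, hb⟩ := P.root x₀ hx₀U
    have hpowD : ∀ x ∈ P.D, ∀ y ∈ P.D, (x * y) ^ p = x ^ p * y ^ p := by
      intro x hx y hy
      have hc := P.comm y hy x hx
      have h := Grp.mul_pow_class_two (x := x) (y := y) (c := ⁅y, x⁆) (by rw [commutatorElement_def]; group)
        (P.central _ hc x hx) (P.central _ hc y hy) p
      obtain ⟨q, hq⟩ := hp.out.dvd_choose_self two_ne_zero (lt_of_le_of_ne hp.out.two_le hp2.symm)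
      rwa [hq, pow_mul, (P.mem_U _).1 hc, one_pow, one_mul] at h
    have hUD : ∀ x ∈ P.U, x ∈ P.D := fun x hx => (P.mem_D x).2 (pow_mem hx p)
    -- a root of `z ^ k` leads to a contradiction unless `p = 3`
    have key : ∀ S ∈ P.D, S ^ p = z ^ k →
        ∃ e : ℕ, a S = z ^ 0 * (a S * S⁻¹) * S ∧ a (a S * S⁻¹) = z ^ e * (a S * S⁻¹) ∧
          z ^ (p.choose 3 * e) * z ^ k = 1 := by
      intro S hS hSp
      set f := a S * S⁻¹ with hf
      have hSaD : a S ∈ P.D := hDinv a S hS
      have hfU : f ∈ P.U := (P.mem_U f).2 (by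
        rw [hf, hpowD _ hSaD _ (inv_mem hS), ← map_pow, inv_pow, hSp, map_pow, haz, mul_inv_cancel])
      set w := a b * (S * b)⁻¹ with hw
      have hwU : w ∈ P.U := (P.mem_U w).2 (by
        rw [hw, hpowD _ (hDinv a b hbD) _ (inv_mem (mul_mem hS hbD)), ← map_pow, hb, hk, inv_pow, hpowD S hS b hbD,
          hSp, hb, mul_inv_cancel])
      obtain ⟨e, he⟩ := hmove w hwU
      obtain ⟨e', he'⟩ := hmove f hfU
      refine ⟨e', by rw [pow_zero, one_mul, hf, inv_mul_cancel_right], he', ?_⟩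
      have h := aut_iter a (b := b) (w := w) (f := f) (z := z) (S := S) (by rw [hw]; group) he
        (by rw [hf, inv_mul_cancel_right]) he' haz (P.central z hzU w (hUD w hwU)) (P.central z hzU f (hUD f hfU))
        (P.central z hzU S hS) (P.central w hwU f (hUD f hfU)) (P.central w hwU S hS) (P.central f hfU S hS) p
      obtain ⟨q, hq⟩ := hp.out.dvd_choose_self two_ne_zero (lt_of_le_of_ne hp.out.two_le hp2.symm)
      rw [show a ^ p = 1 by rw [← ha, pow_orderOf_eq_one], MulAut.one_apply, hq, pow_add, mul_assoc p q e, pow_mul,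
        hzp, one_pow, one_mul, (P.mem_U w).1 hwU, mul_one, pow_mul f, (P.mem_U f).1 hfU, one_pow, mul_one, hSp,
        eq_comm, mul_eq_right] at h
      exact h
    have hp3 : p = 3 := by
      by_contra hne
      obtain ⟨S, hS, hSp⟩ := P.root (z ^ k) (pow_mem hzU k)
      obtain ⟨e, -, -, he⟩ := key S hS hSp
      obtain ⟨q, hq⟩ := hp.out.dvd_choose_self (k := 3) (by norm_num) (by
        have := hp.out.two_le
        omega)
      rw [hq, mul_assoc, pow_mul, hzp, one_pow, one_mul] at he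
      exact hzk he
    have hfixed : ∀ x : L, a x = x → x ∈ Z := by
      intro x hx
      have hUfix : ∀ y ∈ P.U, a y = y → y ∈ Z := by
        intro y hy hay
        by_contra hyZ
        refine hax₀ ?_
        have hsup : Z ⊔ zpowers y = P.U := by
          refine exists_omegaPair.sup_zpowers_eq' (fun w hw => hZU w hw) (by rw [P.card_U, hZc, sq]) hy hyZ
        have hle : Z ⊔ zpowers y ≤ MonoidHom.eqLocus a.toMonoidHom (MonoidHom.id L) := sup_le (fun w hw => by
          obtain ⟨i, hi⟩ := exists_pow_eq hZc hzZ hz1 hw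
          show a w = w
          rw [← hi, map_pow, haz]) (zpowers_le.2 hay)
        exact hle (hsup.ge hx₀U)
      suffices hxU : x ∈ P.U from hUfix x hxU hx
      by_contra hxU
      obtain ⟨j, hj⟩ := IsPGroup.iff_orderOf.1 hL x
      have hj2 : 2 ≤ j := by
        by_contra h
        refine hxU ((P.mem_U x).2 (orderOf_dvd_iff_pow_eq_one.1 (hj ▸ ?_)))
        simpa using pow_dvd_pow p (show j ≤ 1 by omega)
      set s := x ^ p ^ (j - 2) with hs
      have hsp : (s ^ p) ^ p = 1 := by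
        rw [hs, ← pow_mul, ← pow_mul, show p ^ (j - 2) * (p * p) = p ^ j by
          rw [← sq, ← pow_add, Nat.sub_add_cancel hj2], ← hj, pow_orderOf_eq_one]
      have hsp1 : s ^ p ≠ 1 := by
        intro e
        rw [hs, ← pow_mul, ← pow_succ] at e
        have h := orderOf_dvd_of_pow_eq_one e
        rw [hj] at h
        have := (Nat.pow_dvd_pow_iff_le_right hp.out.one_lt).1 h
        omega
      have has : a s = s := by rw [hs, map_pow, hx]
      have hspZ : s ^ p ∈ Z := hUfix _ ((P.mem_U _).2 hsp) (by rw [map_pow, has])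
      obtain ⟨i, hi⟩ := exists_pow_eq hZc hspZ hsp1 (pow_mem hzZ k)
      obtain ⟨e, -, hfe, he⟩ := key (s ^ i) (pow_mem ((P.mem_D s).2 ((P.mem_U _).2 hsp)) i)
        (by rw [← pow_mul, mul_comm, pow_mul, hi])
      rw [map_pow, has, mul_inv_cancel, map_one, mul_one, eq_comm] at hfe
      rw [mul_comm (p.choose 3) e, pow_mul, hfe, one_pow, one_mul] at he
      exact hzk he
    refine ⟨hp3, ?_⟩
    set B := zpowers t ⊔ L₁ with hB
    have hLcen : L₁ ≤ center R := fun y hy => mem_center_iff.2 fun g =>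
      commutatorElement_eq_one_iff_mul_comm.1 (mem_bot.1 (hL₁z g y hy))
    have ht_ord : orderOf t = p := by
      rw [ht, orderOf_injective _ SemidirectProduct.inr_injective, ← orderOf_injective (zpowers a).subtype
        (Subgroup.subtype_injective _)]
      exact ha
    have hB9 : Nat.card B = p ^ 2 := by
      have h := Grp.card_sup_mul_card_inf_normal (H := zpowers t) (N := L₁)
      rw [← hB, Nat.card_zpowers, ht_ord, hL₁c] at h
      have hinf : zpowers t ⊓ L₁ = ⊥ := (Subgroup.eq_bot_iff_forall _).2 fun y hy => by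
        obtain ⟨i, rfl⟩ := mem_zpowers_iff.1 hy.1
        obtain ⟨w, -, hw⟩ := hL₁V hy.2
        have h1 := congrArg SemidirectProduct.left hw
        rw [ht, ← map_zpow, SemidirectProduct.left_inl, SemidirectProduct.left_inr] at h1
        rw [← hw, h1, map_one]
      rw [hinf, Subgroup.card_bot, mul_one] at h
      rw [h, sq]
    have hcent : centralizer (B : Set R) = B := by
      refine le_antisymm (fun r hr => ?_) (fun y hy => mem_centralizer_iff.2 fun y' hy' => ?_)
      · obtain ⟨x, i, rfl⟩ := hdec r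
        have h1 : Commute t (ι x * t ^ i) := mem_centralizer_iff.1 hr t (mem_sup_left (mem_zpowers t))
        have h2 : Commute t (ι x) := by simpa using h1.mul_right ((Commute.refl t).zpow_right (-i))
        have hx : a x = x := hι (by rw [← htι, h2.eq, mul_inv_cancel_right])
        exact mul_mem (mem_sup_right (hfixed x hx : ι x ∈ L₁)) (zpow_mem (mem_sup_left (mem_zpowers t)) i)
      · have hBt : B ≤ centralizer ({t} : Set R) := sup_le (zpowers_le.2 (mem_centralizer_singleton_iff.2 rfl))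
          (hLcen.trans (center_le_centralizer _))
        have hBy : B ≤ centralizer ({y'} : Set R) := sup_le
          (zpowers_le.2 (mem_centralizer_singleton_iff.2 (mem_centralizer_singleton_iff.1 (hBt hy')).symm))
          (hLcen.trans (center_le_centralizer _))
        exact (mem_centralizer_singleton_iff.1 (hBy hy)).symm
    rw [S0112.result (m + 1) hRc B hB9 hcent, Nat.add_sub_cancel]
  · rintro ⟨rfl, hcl⟩
    by_contra hno
    push Not at hno
    have hfixU : ∀ x ∈ P.U, a x = x := fun x hx => by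
      by_cases hx1 : x = 1
      · rw [hx1, map_one]
      · exact hno x (orderOf_eq_prime ((P.mem_U x).1 hx) hx1)
    have hm3 : 3 ≤ m := by
      have hle : Nat.card P.U ≤ Nat.card L := Subgroup.card_le_card_group _
      rw [P.card_U, hm] at hle
      have h2 := (Nat.pow_le_pow_iff_right (by norm_num : 1 < 3)).1 hle
      by_contra h
      have hm2 : m = 2 := by omega
      have hUtop : P.U = ⊤ := Subgroup.eq_top_of_card_eq _ (by rw [P.card_U, hm, hm2])
      have : a = 1 := MulEquiv.ext fun x => hfixU x (hUtop ▸ mem_top x)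
      rw [this, orderOf_one] at ha
      norm_num at ha
    obtain ⟨hser, -⟩ := S0662.result (m + 1) hRc (by rw [hcl, Nat.add_sub_cancel]) (by omega)
    have hγ : ∀ K : Subgroup R, K.Normal → Nat.card K = 3 ^ 2 → K = (⊤ : Subgroup R).lowerCentralSeries (m - 2) := by
      intro K hK hKc
      haveI := hK
      have hidx : K.index = 3 ^ (m - 1) := by
        have h := K.card_mul_index
        rw [hKc, hRc, show m + 1 = 2 + (m - 1) by omega, pow_add] at h
        exact Nat.eq_of_mul_eq_mul_left (by norm_num) h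
      have := hser K (m - 1) (by omega) hidx
      rwa [show m - 1 - 1 = m - 2 by omega] at this
    obtain ⟨N, hNn, hNc, hQc⟩ := id hmc
    haveI := hNn
    have hL'N : commutator L ≤ N := by
      rw [_root_.commutator_def, Subgroup.commutator_le]
      intro x _ y _
      rw [← QuotientGroup.eq_one_iff]
      show QuotientGroup.mk' N ⁅x, y⁆ = 1
      rw [map_commutatorElement, commutatorElement_eq_one_iff_mul_comm]
      exact hQc.commutative.is_comm.comm _ _
    have hL'c : IsCyclic (commutator L) := isCyclic_of_le hL'N hNc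
    set K := P.D ⊓ commutator L with hK
    have hKinv : ∀ ψ : MulAut L, ∀ x ∈ K, ψ x ∈ K := fun ψ x hx => ⟨hDinv ψ x hx.1, by
      have h1 : (commutator L).map ψ.toMonoidHom ≤ commutator L := by
        rw [_root_.commutator_def, Subgroup.map_commutator]
        exact Subgroup.commutator_mono le_top le_top
      exact h1 ⟨x, hx.2, rfl⟩⟩
    have hKn : K.Normal := ⟨fun x hx g => hKinv (MulAut.conj g) x hx⟩
    have hKle : Nat.card K ≤ 3 := by
      by_contra h
      have hKc' : IsCyclic K := isCyclic_of_le inf_le_right hL'c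
      have hle : Nat.card K ≤ 3 ^ 2 := card_le_of_cyclic hKc' (by norm_num) fun x hx => by
        rw [sq, pow_mul]; exact (P.mem_U _).1 ((P.mem_D x).1 hx.1)
      obtain ⟨j, hj⟩ := IsPGroup.iff_card.1 (hL.to_subgroup K)
      have hK9 : Nat.card K = 3 ^ 2 := by
        rw [hj] at hle h ⊢
        have := (Nat.pow_le_pow_iff_right (by norm_num : 1 < 3)).1 hle
        interval_cases j <;> simp_all
      have h1 := hγ _ (hnorm K hKn hKinv) (by rw [Subgroup.card_map_of_injective hι, hK9])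
      have h2 := hγ V hVn hVc
      have h3 : K = P.U := Subgroup.map_injective hι (h1.trans h2.symm)
      have h4 := card_le_of_cyclic hKc' (by norm_num : 0 < 3) fun x hx => (P.mem_U x).1 (h3 ▸ hx)
      omega
    have hL'U : ∀ c ∈ commutator L, c ∈ P.U := by
      intro c hc
      by_contra hcU
      obtain ⟨j, hj⟩ := IsPGroup.iff_orderOf.1 hL c
      have hj2 : 2 ≤ j := by
        by_contra h
        refine hcU ((P.mem_U c).2 (orderOf_dvd_iff_pow_eq_one.1 (hj ▸ ?_)))
        simpa using pow_dvd_pow 3 (show j ≤ 1 by omega)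
      have hmem : c ^ 3 ^ (j - 2) ∈ K := ⟨(P.mem_D _).2 ((P.mem_U _).2 (by
        rw [← pow_mul, ← pow_mul, show 3 ^ (j - 2) * (3 * 3) = 3 ^ j by
          rw [← sq, ← pow_add, Nat.sub_add_cancel hj2], ← hj, pow_orderOf_eq_one])), pow_mem hc _⟩
      have h1 := Nat.le_of_dvd Nat.card_pos (K.orderOf_dvd_natCard hmem)
      rw [orderOf_pow' _ (pow_ne_zero _ (by norm_num)), hj,
        Nat.gcd_eq_right (pow_dvd_pow 3 (by omega)), Nat.pow_div (by omega) (by norm_num),
        show j - (j - 2) = 2 by omega] at h1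
      omega
    haveI : (commutator L).Normal := inferInstance
    have hL'cen : commutator L ≤ center L := Grp.RankThree.central_of_card_le hL
      (card_le_of_cyclic hL'c (by norm_num) fun c hc => (P.mem_U c).1 (hL'U c hc))
    have hUcen : V ≤ center R := by
      rintro _ ⟨u, hu, rfl⟩
      refine mem_center_iff.2 fun r => ?_
      obtain ⟨x, i, rfl⟩ := hdec r
      have h1 : Commute x u := by
        obtain ⟨b, hbD, rfl⟩ := P.root u hu
        have hc : ⁅x, b⁆ ∈ commutator L := by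
          rw [_root_.commutator_def]; exact Subgroup.commutator_mem_commutator (mem_top x) (mem_top b)
        refine mul_inv_eq_iff_eq_mul.1 ?_
        rw [← conj_pow, show x * b * x⁻¹ = ⁅x, b⁆ * b by rw [commutatorElement_def]; group,
          (show Commute ⁅x, b⁆ b from (mem_center_iff.1 (hL'cen hc) b).symm).mul_pow, (P.mem_U _).1 (hL'U _ hc), one_mul]
      have h2 : Commute t (ι u) := mul_inv_eq_iff_eq_mul.1 (by rw [htι, hfixU u hu])
      exact ((h1.map ι).mul_left (h2.zpow_left i)).eq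
    haveI := hRp.isNilpotent
    have hbot : (⊤ : Subgroup R).lowerCentralSeries (m - 1) = ⊥ := by
      rw [show m - 1 = m - 2 + 1 by omega]
      show ⁅(⊤ : Subgroup R).lowerCentralSeries (m - 2), (⊤ : Subgroup R)⁆ = ⊥
      rw [← hγ V hVn hVc, Subgroup.commutator_eq_bot_iff_le_centralizer, Subgroup.coe_top,
        Subgroup.centralizer_univ]
      exact hUcen
    have := _root_.lowerCentralSeries_eq_bot_iff_nilpotencyClass_le.1 hbot
    rw [hcl] at this
    omega

end Cfsg.Agent.Grp.Blackburn
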