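import Mathlib
import Cfsg.Agent.Lib.Grp.Blackburn.Basic
import Cfsg.Agent.Lib.Grp.PGroupSmall
import Cfsg.Agent.S0112

/-!
Three-groups of rank at most two: metacyclic, of maximal class, or with a normal subgroup
of order 27 and exponent 3.
-/

set_option autoImplicit false
set_option maxHeartbeats 1000000

namespace Cfsg.Agent.Grp.Blackburn

open Subgroup
open scoped commutatorElement

/-- Conjugating three times. -/
theorem triple_conj {R : Type*} [Group R] {t z w S a : R} (e : ℤ) (hz : z ∈ center R)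
    (htS : t * S = S * t) (hw : t * w * t⁻¹ = z ^ e * w) (hSw : Commute S w)
    (ha : t * a * t⁻¹ = w * S * a) :
    t ^ 3 * a * (t ^ 3)⁻¹ = (z ^ e) ^ 3 * w ^ 3 * S ^ 3 * a := by
  have hc : ∀ g : R, Commute (z ^ e) g := fun g => (mem_center_iff.1 (zpow_mem hz e) g).symm
  have hS : t * S * t⁻¹ = S := by rw [htS, mul_inv_cancel_right]
  have htz : t * z ^ e * t⁻¹ = z ^ e := by rw [← (hc t).eq, mul_inv_cancel_right]
  have h2 : t * (t * a * t⁻¹) * t⁻¹ = z ^ e * w ^ 2 * S ^ 2 * a := by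
    rw [ha, show t * (w * S * a) * t⁻¹ = (t * w * t⁻¹) * (t * S * t⁻¹) * (t * a * t⁻¹) by group, hw, hS, ha]
    calc z ^ e * w * S * (w * S * a) = z ^ e * (w * (S * w) * S) * a := by simp only [mul_assoc]
      _ = z ^ e * (w * (w * S) * S) * a := by rw [hSw.eq]
      _ = _ := by simp only [sq, mul_assoc]
  calc t ^ 3 * a * (t ^ 3)⁻¹ = t * (t * (t * a * t⁻¹) * t⁻¹) * t⁻¹ := by simp only [pow_succ, pow_zero, one_mul, mul_inv_rev, mul_assoc]
    _ = (t * z ^ e * t⁻¹) * (t * w * t⁻¹) ^ 2 * (t * S * t⁻¹) ^ 2 * (t * a * t⁻¹) := by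
        rw [h2, conj_pow, conj_pow]; group
    _ = z ^ e * (z ^ e * w) ^ 2 * S ^ 2 * (w * S * a) := by rw [htz, hw, hS, ha]
    _ = z ^ e * ((z ^ e) ^ 2 * w ^ 2) * (S ^ 2 * w) * S * a := by rw [(hc w).mul_pow]; simp only [mul_assoc]
    _ = z ^ e * ((z ^ e) ^ 2 * w ^ 2) * (w * S ^ 2) * S * a := by rw [(hSw.pow_left 2).eq]
    _ = _ := by rw [pow_succ' (z ^ e) 2, pow_succ w 2, pow_succ S 2]; simp only [mul_assoc]

theorem case_three {R : Type*} [Group R] [Finite R] (hR : IsPGroup 3 R) (hrk : Cfsg.PRankLE 3 2 R) (n : ℕ)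
    (hn : Nat.card R = 3 ^ n) :
    Cfsg.IsMetacyclic R ∨ (2 ≤ n ∧ Group.nilpotencyClass R = n - 1) ∨ HasBigOmega 3 R := by
  classical
  haveI : Fact (Nat.Prime 3) := ⟨Nat.prime_three⟩
  obtain ⟨A, hAn, hAab, hAe, hAmax⟩ := Transfer.RankTwo.exists_normal_omega_max (p := 3) (by norm_num) hR
  haveI := hAn
  have hAc : ∀ a ∈ A, ∀ b ∈ A, a * b = b * a := fun a ha b hb =>
    congrArg Subtype.val (mul_comm' (⟨a, ha⟩ : A) ⟨b, hb⟩)
  set C := centralizer (A : Set R) with hC
  have hmemC : ∀ {x : R}, x ∈ C ↔ ∀ a ∈ A, a * x = x * a := fun {x} => mem_centralizer_iff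
  have hAC : A ≤ C := fun a ha => hmemC.2 fun b hb => hAc b hb a ha
  have hmemA : ∀ x ∈ C, x ^ 3 = 1 → x ∈ A := fun x hx hx3 => hAmax x hx hx3
  by_cases hCtop : C = ⊤
  · left
    refine isMetacyclic_pCentral (by norm_num) hR (fun x hx => ?_) hrk
    have hxA := hmemA x (hCtop ▸ mem_top x) hx
    exact mem_center_iff.2 fun g => (hmemC.1 (hCtop ▸ mem_top g) x hxA).symm
  -- now `A` has order 9 and centralizer of index 3
  have hA9 : Nat.card A = 3 ^ 2 := by
    obtain ⟨j, hj⟩ := IsPGroup.iff_card.1 (hR.to_subgroup A)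
    have hle := hrk A hAab hAe
    rw [hj] at hle ⊢
    have hj2 := (Nat.pow_le_pow_iff_right (by norm_num : 1 < 3)).1 hle
    by_contra hne
    have hj1 : j ≤ 1 := by
      by_contra h
      exact hne (by rw [show j = 2 by omega])
    refine hCtop (eq_top_iff.2 fun g _ => hmemC.2 fun a ha => ?_)
    have := Grp.RankThree.central_of_card_le hR (U := A) (hj ▸ (Nat.pow_le_pow_right (by norm_num) hj1).trans_eq (pow_one 3))
    exact (mem_center_iff.1 (this ha) g).symm
  haveI hCn : C.Normal := by rw [hC]; exact Subgroup.normal_centralizer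
  have hCi : C.index = 3 := by
    have h1 := Grp.RankThree.index_centralizer_le hR hAab hA9.le
    obtain ⟨j, hj⟩ := hR.index C
    rw [← hC, hj] at h1
    have hj1 := (Nat.pow_le_pow_iff_right (by norm_num : 1 < 3)).1 (h1.trans_eq (pow_one 3).symm)
    rcases Nat.le_one_iff_eq_zero_or_eq_one.1 hj1 with h | h
    · exact absurd (Subgroup.index_eq_one.1 (by rw [hj, h, pow_zero])) hCtop
    · rw [hj, h, pow_one]
  have hcub : ∀ g : R, g ^ 3 ∈ C := fun g => by
    have := C.pow_index_mem g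
    rwa [hCi] at this
  -- the central subgroup of order 3 in `A`
  have hbot : (⊥ : Subgroup R) < A := bot_lt_iff_ne_bot.2 fun e => by
    rw [e, Subgroup.card_bot] at hA9; norm_num at hA9
  obtain ⟨L, hLn, -, hLA, hLc, hLz⟩ := Transfer.NormalSteps.exists_normal_step hR hbot
  rw [Subgroup.card_bot, mul_one] at hLc
  haveI := hLn
  have hLcen : L ≤ center R := fun x hx => mem_center_iff.2 fun g =>
    commutatorElement_eq_one_iff_mul_comm.1 (mem_bot.1 (hLz g x hx))
  have hLA' : L < A := lt_of_le_of_ne hLA fun e => by rw [e, hA9] at hLc; norm_num at hLc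
  obtain ⟨A', -, -, hA'A, hA'c, hA'z⟩ := Transfer.NormalSteps.exists_normal_step hR hLA'
  have hA'eq : A' = A := Subgroup.eq_of_le_of_card_ge hA'A (by rw [hA'c, hLc, hA9]; norm_num)
  have hcomA : ∀ g : R, ∀ a ∈ A, ⁅g, a⁆ ∈ L := fun g a ha => hA'z g a (hA'eq ▸ ha)
  -- decomposition over an element outside `C`
  have hgen : ∀ t, t ∉ C → C ⊔ zpowers t = ⊤ := by
    intro t ht
    have hlt : C < C ⊔ zpowers t := lt_of_le_of_ne le_sup_left fun e =>
      ht (e.symm ▸ mem_sup_right (mem_zpowers t))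
    have h1 := Subgroup.index_strictAnti hlt
    obtain ⟨j, hj⟩ := hR.index (C ⊔ zpowers t)
    rw [hj, hCi] at h1
    have hj0 : j = 0 := by
      by_contra h
      exact absurd h1 (not_lt.2 (le_trans (by norm_num) (Nat.pow_le_pow_right (by norm_num) (Nat.one_le_iff_ne_zero.2 h))))
    exact Subgroup.index_eq_one.1 (by rw [hj, hj0, pow_zero])
  have hdec : ∀ t, t ∉ C → ∀ r : R, ∃ c ∈ C, ∃ i : ℤ, r = c * t ^ i := fun t ht r => by
    obtain ⟨c, hc, y, hy, rfl⟩ := mem_sup_of_normal_left.1 ((hgen t ht).ge (mem_top r))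
    obtain ⟨i, rfl⟩ := mem_zpowers_iff.1 hy
    exact ⟨c, hc, i, rfl⟩
  have hfix : ∀ t, t ∉ C → ∀ a ∈ A, t * a = a * t → a ∈ L := by
    intro t ht a ha hta
    by_contra haL
    have hcen : a ∈ center R := mem_center_iff.2 fun r => by
      obtain ⟨c, hc, i, rfl⟩ := hdec t ht r
      have h1 : Commute c a := (hmemC.1 hc a ha).symm
      exact (h1.mul_left ((show Commute t a from hta).zpow_left i)).eq
    have hsup : A ≤ L ⊔ zpowers a := by
      have hlt : L < L ⊔ zpowers a := lt_of_le_of_ne le_sup_left fun e =>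
        haL (e.symm ▸ mem_sup_right (mem_zpowers a))
      have hle : L ⊔ zpowers a ≤ A := sup_le hLA (zpowers_le.2 ha)
      refine (Subgroup.eq_of_le_of_card_ge hle ?_).ge
      have h1 := Subgroup.card_dvd_of_le hle
      rw [hA9] at h1
      obtain ⟨j, hj, hj'⟩ := (Nat.dvd_prime_pow Nat.prime_three).1 h1
      have h2 : Nat.card L < Nat.card ↥(L ⊔ zpowers a) := by
        by_contra hh
        exact hlt.ne (Subgroup.eq_of_le_of_card_ge hlt.le (not_lt.1 hh))
      rw [hA9, hj']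
      rw [hLc, hj'] at h2
      interval_cases j <;> simp_all
    refine hCtop (eq_top_iff.2 fun g _ => hmemC.2 fun b hb => (mem_center_iff.1 ?_ g).symm)
    exact (sup_le hLcen (zpowers_le.2 hcen)) (hsup hb)
  have hCc : PCentral 3 C := fun x hx => mem_center_iff.2 fun g => Subtype.ext
    (hmemC.1 g.2 x (hmemA x x.2 (by simpa using congrArg Subtype.val hx))).symm
  have hCP : IsPGroup 3 C := hR.to_subgroup C
  have hp2 : (3 : ℕ) ≠ 2 := by norm_num
  have hpow : ∀ x ∈ C, ∀ y ∈ C, x ^ 3 = y ^ 3 → x * y⁻¹ ∈ A := fun x hx y hy h =>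
    hmemA _ (mul_mem hx (inv_mem hy)) (congrArg Subtype.val
      (pow_eq (x := (⟨x, hx⟩ : C)) (y := (⟨y, hy⟩ : C)) hp2 hCP hCc (Subtype.ext h)))
  have hcp : ∀ x ∈ C, (x ^ 3) ^ 3 = 1 → ∀ y ∈ C, ⁅y, x⁆ ∈ A := fun x hx h y hy =>
    hmemA _ ((⁅(⟨y, hy⟩ : C), (⟨x, hx⟩ : C)⁆).2) (congrArg Subtype.val
      (comm_pow (x := (⟨x, hx⟩ : C)) hp2 hCP hCc (Subtype.ext h) (⟨y, hy⟩ : C)))
  have hmul : ∀ x ∈ C, ∀ y ∈ C, (x ^ 3) ^ 3 = 1 → (y * x) ^ 3 = y ^ 3 * x ^ 3 := by
    intro x hx y hy h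
    have hx' : ((⟨x, hx⟩ : C) ^ 3) ^ 3 = 1 := Subtype.ext h
    have h0 := comm_pow (x := (⟨x, hx⟩ : C)) hp2 hCP hCc hx' ⟨y, hy⟩
    have h1 : ⁅(⟨x, hx⟩ : C), (⟨y, hy⟩ : C)⁆ ^ 3 = 1 := by
      rw [← commutatorElement_inv, inv_pow, h0, inv_one]
    exact congrArg Subtype.val (mul_pow_of_comm (a := (⟨y, hy⟩ : C)) (b := ⟨x, hx⟩) hp2 (hCc _ h1) h1)
  -- maximal class
  by_cases hM : ∃ t, t ∉ C ∧ ∀ x ∈ C, t * x = x * t → x ^ 3 = 1
  · obtain ⟨t, ht, htC⟩ := hM
    right; left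
    have hCt : ∀ x ∈ C, t * x = x * t → x ∈ L := fun x hx h =>
      hfix t ht x (hmemA x hx (htC x hx h)) h
    have ht3 : t ^ 3 ∈ L := hCt _ (hcub t) (Commute.self_pow t 3).eq
    set B := zpowers t ⊔ L with hB
    have hBc : ∀ b ∈ B, b * t = t * b := by
      have : B ≤ centralizer ({t} : Set R) := sup_le (zpowers_le.2 (mem_centralizer_singleton_iff.2 rfl))
        (hLcen.trans (center_le_centralizer _))
      exact fun b hb => mem_centralizer_singleton_iff.1 (this hb)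
    have hB9 : Nat.card B = 3 ^ 2 := by
      have h := Grp.card_sup_mul_card_inf_normal (H := zpowers t) (N := L)
      rw [← hB, Nat.card_zpowers, hLc] at h
      have hd := Subgroup.card_dvd_of_le (inf_le_right : zpowers t ⊓ L ≤ L)
      rw [hLc] at hd
      have h9 : t ^ 9 = 1 := by
        rw [show (9 : ℕ) = 3 * 3 from rfl, pow_mul]
        have := congrArg Subtype.val (pow_card_eq_one' (x := (⟨t ^ 3, ht3⟩ : L)))
        rw [hLc] at this
        exact this
      rcases (Nat.dvd_prime Nat.prime_three).1 hd with h1 | h1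
      · have he : zpowers t ⊓ L = ⊥ := Subgroup.card_eq_one.1 h1
        have : t ^ 3 = 1 := by
          rw [← mem_bot, ← he]
          exact ⟨pow_mem (mem_zpowers t) 3, ht3⟩
        rw [h1, mul_one, orderOf_eq_prime this (fun e => ht (e ▸ one_mem C))] at h
        rw [h]; norm_num
      · have he : zpowers t ⊓ L = L := Subgroup.eq_of_le_of_card_ge inf_le_right (by rw [h1, hLc])
        have ho : ¬ t ^ 3 = 1 := by
          intro e
          have h2 := Subgroup.card_dvd_of_le (he ▸ inf_le_left : L ≤ zpowers t)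
          rw [hLc, Nat.card_zpowers, orderOf_eq_prime e (fun e' => ht (e' ▸ one_mem C))] at h2
          have h3 : zpowers t = L := (Subgroup.eq_of_le_of_card_ge (he ▸ inf_le_left : L ≤ zpowers t) (by
            rw [hLc, Nat.card_zpowers, orderOf_eq_prime e (fun e' => ht (e' ▸ one_mem C))])).symm
          exact ht (hAC (hLA (h3.le (mem_zpowers t))))
        have ho9 : orderOf t = 3 ^ 2 := orderOf_eq_prime_pow (n := 1) (by simpa using ho) (by simpa using h9)
        rw [h1, ho9] at h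
        omega
    have hcent : centralizer (B : Set R) = B := by
      refine le_antisymm (fun r hr => ?_) (fun b hb => mem_centralizer_iff.2 fun b' hb' => ?_)
      · obtain ⟨c, hc, i, rfl⟩ := hdec t ht r
        have h1 : Commute t (c * t ^ i) := mem_centralizer_iff.1 hr t (mem_sup_left (mem_zpowers t))
        have h2 : Commute t c := by simpa using h1.mul_right ((Commute.refl t).zpow_right (-i))
        exact mul_mem (mem_sup_right (hCt c hc h2.eq)) (zpow_mem (mem_sup_left (mem_zpowers t)) i)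
      · have : B ≤ centralizer ({b'} : Set R) := sup_le
          (zpowers_le.2 (mem_centralizer_singleton_iff.2 (hBc b' hb').symm))
          (hLcen.trans (center_le_centralizer _))
        exact (mem_centralizer_singleton_iff.1 (this hb)).symm
    refine ⟨?_, S0112.result n hn B hB9 hcent⟩
    by_contra hlt
    have h1 := Nat.le_of_dvd Nat.card_pos (Subgroup.card_subgroup_dvd_card A)
    rw [hA9, hn] at h1
    have := (Nat.pow_le_pow_iff_right (by norm_num : 1 < 3)).1 h1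
    omega
  push Not at hM
  obtain ⟨t, -, ht⟩ := SetLike.exists_of_lt (lt_top_iff_ne_top.2 hCtop)
  obtain ⟨x₀, hx₀C, htx₀, hx₀⟩ := hM t ht
  obtain ⟨k₀, hk₀⟩ := IsPGroup.iff_orderOf.1 hR x₀
  have hk2 : 2 ≤ k₀ := by
    by_contra h
    refine hx₀ (orderOf_dvd_iff_pow_eq_one.1 (hk₀ ▸ ?_))
    simpa using pow_dvd_pow 3 (show k₀ ≤ 1 by omega)
  set s := x₀ ^ 3 ^ (k₀ - 2) with hs
  have hsC : s ∈ C := pow_mem hx₀C _
  have hts : t * s = s * t := ((show Commute t x₀ from htx₀).pow_right _).eq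
  set z := s ^ 3 with hzdef
  have hz3 : z ^ 3 = 1 := by
    rw [hzdef, hs, ← pow_mul, ← pow_mul, show 3 ^ (k₀ - 2) * (3 * 3) = 3 ^ k₀ by
      rw [show 3 * 3 = 3 ^ 2 from rfl, ← pow_add, Nat.sub_add_cancel hk2], ← hk₀, pow_orderOf_eq_one]
  have hz1 : z ≠ 1 := by
    intro e
    rw [hzdef, hs, ← pow_mul, ← pow_succ] at e
    have h := orderOf_dvd_of_pow_eq_one e
    rw [hk₀] at h
    have := (Nat.pow_dvd_pow_iff_le_right (by norm_num : 1 < 3)).1 h
    omega
  have hzL : z ∈ L := hfix t ht z (hmemA z (pow_mem hsC 3) hz3) ((show Commute t s from hts).pow_right 3).eq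
  have hzc : z ∈ center R := hLcen hzL
  have hLgen : ∀ x ∈ L, ∃ i : ℤ, z ^ i = x := fun x hx => exists_zpow_eq hLc hzL hz1 hx
  have hs9 : ∀ i : ℤ, ((s ^ i) ^ 3) ^ 3 = 1 := fun i => by
    rw [← zpow_natCast (s ^ i) 3, ← zpow_mul, mul_comm, zpow_mul, zpow_natCast, ← hzdef, ← zpow_natCast (z ^ i) 3,
      ← zpow_mul, mul_comm, zpow_mul, zpow_natCast, hz3, one_zpow]
  have hsz : ∀ i : ℤ, (s ^ i) ^ 3 = z ^ i := fun i => by
    rw [← zpow_natCast (s ^ i) 3, ← zpow_mul, mul_comm, zpow_mul, zpow_natCast]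
  have hzi : ∀ i : ℤ, (z ^ i) ^ 3 = 1 := fun i => by
    rw [← hsz]; exact hs9 i
  have hAcomm : ∀ a ∈ A, ∀ x ∈ C, Commute x a := fun a ha x hx => (hmemC.1 hx a ha).symm
  have htA : ∀ w ∈ A, ∃ e : ℤ, t * w * t⁻¹ = z ^ e * w := fun w hw => by
    obtain ⟨e, he⟩ := hLgen _ (hcomA t w hw)
    exact ⟨e, by rw [he, commutatorElement_def]; group⟩
  -- conjugation by `t` raised to the third power
  have htriple : ∀ a : R, ∀ i : ℤ, ∀ w ∈ A, t * a * t⁻¹ = w * s ^ i * a →
      t ^ 3 * a * (t ^ 3)⁻¹ = z ^ i * a := by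
    intro a i w hw ha
    obtain ⟨e, he⟩ := htA w hw
    rw [triple_conj e hzc ((show Commute t s from hts).zpow_right i).eq he
      ((hAcomm w hw (s ^ i) (zpow_mem hsC i))) ha, hzi, hAe w hw, hsz]
    group
  by_cases hW : t ^ 3 ∈ (powSub 3 C).map C.subtype
  swap
  · left
    refine isMetacyclic hp2 hR ?_
    set W := (powSub 3 C).map C.subtype with hWdef
    have hWi : W.index ≤ 27 := by
      rw [hWdef, Subgroup.index_map_subtype, hCi]
      have h1 := index_powSub_le hp2 hCP hCc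
      have h2 : Nat.card {x : C // x ^ 3 = 1} ≤ 9 := by
        have := Nat.card_le_card_of_injective
          (fun x : {x : C // x ^ 3 = 1} => (⟨(x.1 : R), hmemA _ x.1.2 (by simpa using congrArg Subtype.val x.2)⟩ : A))
          (fun a b h => Subtype.ext (Subtype.ext (congrArg Subtype.val h :)))
        rw [hA9] at this
        exact this.trans (by norm_num)
      calc (powSub 3 C).index * 3 ≤ 9 * 3 := Nat.mul_le_mul_right 3 (h1.trans h2)
        _ = 27 := by norm_num
    have hle : W ≤ powSub 3 R := by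
      rw [hWdef, powSub, MonoidHom.map_closure, Subgroup.closure_le]
      rintro _ ⟨_, ⟨y, rfl⟩, rfl⟩
      exact pow_mem_powSub (p := 3) (y : R)
    have hlt : W < powSub 3 R := lt_of_le_of_ne hle fun e => hW (e.symm ▸ pow_mem_powSub t)
    have h1 := Subgroup.index_strictAnti hlt
    obtain ⟨j, hj⟩ := hR.index (powSub 3 R)
    rw [hj] at h1 ⊢
    have := (Nat.pow_lt_pow_iff_right (by norm_num : 1 < 3)).1 (h1.trans_le (hWi.trans_eq (by norm_num : 27 = 3 ^ 3)))
    exact Nat.pow_le_pow_right (by norm_num) (by omega)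
  -- `t ^ 3` commutes with the elements of order at most 9
  have ht9 : ∀ a ∈ C, (a ^ 3) ^ 3 = 1 → Commute (t ^ 3) a := by
    intro a ha h9
    have hle : (powSub 3 C).map C.subtype ≤ centralizer ({a} : Set R) := by
      rw [powSub, MonoidHom.map_closure, Subgroup.closure_le]
      rintro _ ⟨_, ⟨⟨c, hc⟩, rfl⟩, rfl⟩
      refine mem_centralizer_singleton_iff.2 ?_
      show c ^ 3 * a = a * c ^ 3
      set d := ⁅c, a⁆ with hd
      have hdA : d ∈ A := hcp a ha h9 c hc
      have hcd : Commute c d := hAcomm d hdA c hc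
      have h1 : c * a = d * (a * c) := by rw [hd, commutatorElement_def]; group
      calc c ^ 3 * a = c * (c * (c * a)) := by simp only [pow_succ, pow_zero, one_mul, mul_assoc]
        _ = c * (c * (d * (a * c))) := by rw [h1]
        _ = d * (c * (c * a)) * c := by
            rw [← mul_assoc c d, hcd.eq, mul_assoc d c, ← mul_assoc c d, hcd.eq]; simp only [mul_assoc]
        _ = d * (c * (d * (a * c))) * c := by rw [h1]
        _ = d * d * (c * a) * c * c := by rw [← mul_assoc c d, hcd.eq]; simp only [mul_assoc]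
        _ = d ^ 3 * a * c ^ 3 := by rw [h1]; simp only [pow_succ, pow_zero, one_mul, mul_assoc]
        _ = a * c ^ 3 := by rw [hAe d hdA, one_mul]
    exact mem_centralizer_singleton_iff.1 (hle hW)
  -- the cube of an element of order at most 9 lies in `L`
  have hstep1 : ∀ a ∈ C, (a ^ 3) ^ 3 = 1 → a ^ 3 ∈ L := by
    intro a ha h9
    by_contra huL
    have huA : a ^ 3 ∈ A := hmemA _ (pow_mem ha 3) h9
    obtain ⟨k, hk⟩ := hLgen _ (hcomA t _ huA)
    have hk3 : ¬ (3 : ℤ) ∣ k := by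
      rintro ⟨l, rfl⟩
      refine huL (hfix t ht _ huA ?_)
      rw [← commutatorElement_eq_one_iff_mul_comm, ← hk, zpow_mul, show z ^ (3 : ℤ) = 1 by
        rw [show (3 : ℤ) = ((3 : ℕ) : ℤ) from rfl, zpow_natCast, hz3], one_zpow]
    set b := t * a * t⁻¹ with hb
    have hbC : b ∈ C := hCn.conj_mem a ha t
    have hb3 : b ^ 3 = (s ^ k * a) ^ 3 := by
      rw [hmul a ha (s ^ k) (zpow_mem hsC k) h9, hsz, hb, conj_pow, hk, commutatorElement_def]; group
    have hw := hpow b hbC _ (mul_mem (zpow_mem hsC k) ha) hb3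
    have h := htriple a k _ hw (by rw [← hb]; group)
    rw [(ht9 a ha h9).eq, mul_inv_cancel_right] at h
    exact hk3 (zpow_dvd_of_eq_one (p := 3) hz1 hz3 (mul_eq_right.1 h.symm))
  -- `C` is commutative
  have hAsub : ∀ x : C, x ∈ A.subgroupOf C → x ∈ center C := fun x hx =>
    mem_center_iff.2 fun g => Subtype.ext (hAcomm x hx g g.2).eq
  have hcyc : IsCyclic (C ⧸ A.subgroupOf C) := by
    have hmem : ∀ x : C, (x : C ⧸ A.subgroupOf C) ^ 3 = 1 → ((x : R) ^ 3) ^ 3 = 1 := fun x hx => by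
      rw [← QuotientGroup.mk_pow, QuotientGroup.eq_one_iff] at hx
      exact hAe _ hx
    refine isCyclic_of_omega (p := 3) hp2 (hCP.to_quotient _) (fun q hq => ?_) ?_
    · obtain ⟨x, rfl⟩ := QuotientGroup.mk_surjective q
      refine mem_center_iff.2 fun g => ?_
      obtain ⟨g, rfl⟩ := QuotientGroup.mk_surjective g
      refine commutatorElement_eq_one_iff_mul_comm.1 ?_
      show ⁅QuotientGroup.mk' _ g, QuotientGroup.mk' _ x⁆ = 1
      rw [← map_commutatorElement]
      exact (QuotientGroup.eq_one_iff _).2 (hcp x x.2 (hmem x hq) g g.2)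
    · set S : C ⧸ A.subgroupOf C := QuotientGroup.mk ⟨s, hsC⟩ with hS
      have hsub : ∀ q : {q : C ⧸ A.subgroupOf C // q ^ 3 = 1}, q.1 ∈ zpowers S := by
        rintro ⟨q, hq⟩
        obtain ⟨x, rfl⟩ := QuotientGroup.mk_surjective q
        obtain ⟨i, hi⟩ := hLgen _ (hstep1 x x.2 (hmem x hq))
        refine ⟨i, ?_⟩
        show S ^ i = (x : C ⧸ A.subgroupOf C)
        rw [hS, ← QuotientGroup.mk_zpow, QuotientGroup.eq]
        have := hpow x x.2 (s ^ i) (zpow_mem hsC i) (by rw [hsz, hi])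
        have h2 := hAn.conj_mem _ this (s ^ i)⁻¹
        show ((((⟨s, hsC⟩ : C) ^ i)⁻¹ * x : C) : R) ∈ A
        simpa [mul_assoc] using h2
      have := Nat.card_le_card_of_injective
        (fun q : {q : C ⧸ A.subgroupOf C // q ^ 3 = 1} => (⟨q.1, hsub q⟩ : zpowers S))
        (fun a b h => Subtype.ext (congrArg Subtype.val h :))
      rw [Nat.card_zpowers] at this
      refine this.trans (Nat.le_of_dvd (by norm_num) (orderOf_dvd_of_pow_eq_one ?_))
      rw [hS, ← QuotientGroup.mk_pow, QuotientGroup.eq_one_iff]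
      exact hLA hzL
  have hCcomm : ∀ x ∈ C, ∀ y ∈ C, x * y = y * x := by
    intro x hx y hy
    obtain ⟨⟨g, hg⟩⟩ := id hcyc
    haveI := hcyc
    have h := commutative_of_cyclic_center_quotient (QuotientGroup.mk' (A.subgroupOf C))
      (fun w hw => hAsub w (by rwa [QuotientGroup.ker_mk'] at hw)) ⟨x, hx⟩ ⟨y, hy⟩
    exact congrArg Subtype.val h
  -- commutators with `t` lie in `A`
  have hstep3 : ∀ (m : ℕ), ∀ x ∈ C, orderOf x = m → ⁅t, x⁆ ∈ A := by
    intro m
    induction m using Nat.strong_induction_on with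
    | _ m ih =>
    intro x hx hm
    by_cases hx1 : x = 1
    · rw [hx1, commutatorElement_one_right]; exact one_mem A
    have hlt : orderOf (x ^ 3) < m := by
      obtain ⟨j, hj⟩ := IsPGroup.iff_orderOf.1 hR x
      have hj0 : j ≠ 0 := fun e => hx1 (orderOf_eq_one_iff.1 (by rw [hj, e, pow_zero]))
      rw [orderOf_pow_of_dvd (by norm_num) (hj ▸ dvd_pow_self 3 hj0), ← hm]
      exact Nat.div_lt_self (orderOf_pos x) (by norm_num)
    have hd3 := ih _ hlt (x ^ 3) (pow_mem hx 3) rfl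
    set d := ⁅t, x⁆ with hd
    have hdC : d ∈ C := mul_mem (hCn.conj_mem x hx t) (inv_mem hx)
    have hd' : ⁅t, x ^ 3⁆ = d ^ 3 := by
      have h1 : Commute (t * x * t⁻¹) x⁻¹ := hCcomm _ (hCn.conj_mem x hx t) _ (inv_mem hx)
      rw [hd, commutatorElement_def, commutatorElement_def, h1.mul_pow, conj_pow, inv_pow]
    have hd9 : (d ^ 3) ^ 3 = 1 := hAe _ (hd' ▸ hd3)
    obtain ⟨i, hi⟩ := hLgen _ (hstep1 d hdC hd9)
    have hw := hpow d hdC (s ^ i) (zpow_mem hsC i) (by rw [hsz, hi])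
    have h := htriple x i _ hw (by rw [hd, commutatorElement_def]; group)
    rw [show t ^ 3 * x = x * t ^ 3 from hCcomm _ (hcub t) _ hx, mul_inv_cancel_right] at h
    obtain ⟨l, hl⟩ := zpow_dvd_of_eq_one (p := 3) hz1 hz3 (mul_eq_right.1 h.symm)
    have hsiA : s ^ i ∈ A := by
      rw [hl, zpow_mul, show s ^ ((3 : ℕ) : ℤ) = z by rw [zpow_natCast]]
      exact zpow_mem (hLA hzL) l
    simpa using mul_mem hw hsiA
  obtain ⟨c, hcC, hc⟩ : ∃ c ∈ C, c ^ 3 = t ^ 3 := by
    letI : CommGroup C := { (inferInstance : Group C) with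
      mul_comm := fun a b => Subtype.ext (hCcomm a a.2 b b.2) }
    obtain ⟨w, hw, hw'⟩ := hW
    have : powSub 3 C ≤ (powMonoidHom 3 : C →* C).range := by
      rw [powSub, Subgroup.closure_le]
      rintro _ ⟨y, rfl⟩
      exact ⟨y, rfl⟩
    obtain ⟨y, hy⟩ := this hw
    refine ⟨y, y.2, ?_⟩
    rw [← hw', ← hy]
    rfl
  set d := ⁅t, c⁻¹⁆ with hd
  have hdA : d ∈ A := hstep3 _ _ (inv_mem hcC) rfl
  obtain ⟨e, he⟩ := htA d hdA
  set t₁ := t * c⁻¹ with ht₁
  have ht1 : t₁ ^ 3 = z ^ e := by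
    have h1 : t * c⁻¹ * t⁻¹ = d * c⁻¹ := by rw [hd, commutatorElement_def]; group
    have hcz : Commute (z ^ e) c⁻¹ := (mem_center_iff.1 (zpow_mem hzc e) c⁻¹).symm
    have hcd : Commute c⁻¹ d := hAcomm d hdA _ (inv_mem hcC)
    calc t₁ ^ 3 = (t * c⁻¹ * t⁻¹) * ((t * (t * c⁻¹ * t⁻¹) * t⁻¹)) * (t ^ 3 * c⁻¹) := by
          rw [ht₁]; simp only [pow_succ, pow_zero, one_mul]; group
      _ = (d * c⁻¹) * ((z ^ e * d) * (d * c⁻¹)) * (c ^ 3 * c⁻¹) := by
          rw [h1, show t * (d * c⁻¹) * t⁻¹ = (t * d * t⁻¹) * (t * c⁻¹ * t⁻¹) by group, he, h1, hc]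
      _ = z ^ e * (d * c⁻¹ * d * d) * c⁻¹ * (c ^ 3 * c⁻¹) := by
          rw [mul_assoc (z ^ e) d, ← mul_assoc (d * c⁻¹) (z ^ e), ← ((mem_center_iff.1 (zpow_mem hzc e) (d * c⁻¹))).symm]
          simp only [mul_assoc]
      _ = z ^ e * (d * d * d) * (c⁻¹ * c⁻¹ * (c ^ 3 * c⁻¹)) := by
          rw [show d * c⁻¹ * d * d = d * (c⁻¹ * d) * d by simp only [mul_assoc], hcd.eq,
            show d * (d * c⁻¹) * d = d * d * (c⁻¹ * d) by simp only [mul_assoc], hcd.eq]
          simp only [mul_assoc]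
      _ = z ^ e := by
          rw [show d * d * d = d ^ 3 by simp only [pow_succ, pow_zero, one_mul], hAe d hdA,
            show c⁻¹ * c⁻¹ * (c ^ 3 * c⁻¹) = 1 by group, mul_one, mul_one]
  set m := c⁻¹ * (s ^ e)⁻¹ with hm
  set t₂ := t * m with ht₂
  have hmC : m ∈ C := mul_mem (inv_mem hcC) (inv_mem (zpow_mem hsC e))
  have ht2 : t₂ ^ 3 = 1 := by
    have h1 : Commute t₁ (s ^ e)⁻¹ := ((show Commute t (s ^ e)⁻¹ from
      ((show Commute t s from hts).zpow_right e).inv_right).mul_left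
      (hCcomm _ (inv_mem hcC) _ (inv_mem (zpow_mem hsC e))))
    rw [ht₂, hm, ← mul_assoc, ← ht₁, h1.mul_pow, ht1, inv_pow, hsz, mul_inv_cancel]
  have ht2C : t₂ ∉ C := fun h => ht (by simpa [ht₂] using mul_mem h (inv_mem hmC))
  right; right
  set E := A ⊔ zpowers t₂ with hE
  have hgenN : E.Normal := by
    refine Subgroup.normalizer_eq_top_iff.1 (eq_top_iff.2 ?_)
    have key : ∀ g : R, g * t₂ * g⁻¹ ∈ E → g ∈ normalizer (E : Set R) := fun g hg => by
      refine Subgroup.mem_normalizer_fintype fun x hx => ?_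
      have : E.map (MulAut.conj g).toMonoidHom ≤ E := by
        rw [hE, Subgroup.map_sup, MonoidHom.map_zpowers]
        refine sup_le ?_ (zpowers_le.2 hg)
        rintro _ ⟨a, ha, rfl⟩
        exact mem_sup_left (hAn.conj_mem a ha g)
      exact this ⟨x, hx, rfl⟩
    rw [← hgen t ht]
    refine sup_le (fun g hg => key g ?_) (zpowers_le.2 (key t ?_))
    · have h1 : g * t₂ * g⁻¹ = ⁅t, g⁆⁻¹ * t₂ := by
        rw [ht₂, show g * (t * m) * g⁻¹ = g * t * (m * g⁻¹) by group, hCcomm m hmC g⁻¹ (inv_mem hg),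
          commutatorElement_def]
        group
      rw [h1]
      exact mul_mem (mem_sup_left (inv_mem (hstep3 _ g hg rfl))) (mem_sup_right (mem_zpowers _))
    · have h1 : t * t₂ * t⁻¹ = (t * ⁅t, m⁆ * t⁻¹) * t₂ := by
        rw [ht₂, commutatorElement_def]; group
      rw [h1]
      exact mul_mem (mem_sup_left (hAn.conj_mem _ (hstep3 _ m hmC rfl) t)) (mem_sup_right (mem_zpowers _))
  refine ⟨E, hgenN, ?_, ?_, ?_⟩
  · have h := Grp.card_sup_mul_card_inf_normal (H := zpowers t₂) (N := A)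
    rw [sup_comm, ← hE, Nat.card_zpowers, orderOf_eq_prime ht2 (fun e' => ht2C (e' ▸ one_mem C)), hA9] at h
    have hd := Subgroup.card_dvd_of_le (inf_le_left : zpowers t₂ ⊓ A ≤ zpowers t₂)
    rw [Nat.card_zpowers, orderOf_eq_prime ht2 (fun e' => ht2C (e' ▸ one_mem C))] at hd
    rcases (Nat.dvd_prime Nat.prime_three).1 hd with h1 | h1
    · rw [h1] at h; omega
    · exact absurd (hAC ((Subgroup.eq_of_le_of_card_ge (inf_le_left : zpowers t₂ ⊓ A ≤ zpowers t₂) (by
        rw [h1, Nat.card_zpowers, orderOf_eq_prime ht2 (fun e' => ht2C (e' ▸ one_mem C))])).ge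
        (mem_zpowers t₂)).2) ht2C
  · intro x hx
    obtain ⟨a, ha, y, hy, rfl⟩ := mem_sup_of_normal_left.1 hx
    obtain ⟨i, rfl⟩ := mem_zpowers_iff.1 hy
    rw [mul_pow_of_comm hp2 (hLcen (hcomA _ a ha)) (hAe _ (hLA (hcomA _ a ha))), hAe a ha, one_mul,
      ← zpow_natCast (t₂ ^ i) 3, ← zpow_mul, mul_comm, zpow_mul, zpow_natCast, ht2, one_zpow]
  · obtain ⟨a, ha, haL⟩ := SetLike.exists_of_lt hLA'
    exact ⟨t₂, mem_sup_right (mem_zpowers _), a, mem_sup_left ha, fun h => haL (hfix t₂ ht2C a ha h)⟩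

end Cfsg.Agent.Grp.Blackburn
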