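import Mathlib
import Cfsg.Agent.Lib.Grp.Blackburn.CaseThree
import Cfsg.Agent.Lib.Grp.Blackburn.Extraspecial

/-!
Blackburn's classification of the `p`-groups of rank at most two, `p` odd.
-/

set_option autoImplicit false

namespace Cfsg.Agent.Grp.Blackburn

open Subgroup

variable {p : ℕ} [hp : Fact p.Prime]

theorem hasBigOmega_of_not_omegaLE {R : Type*} [Group R] [Finite R] (hp5 : 3 < p) (hR : IsPGroup p R)
    (hrk : Cfsg.PRankLE p 2 R) (h : ¬ Transfer.RankTwo.OmegaLE p R) : HasBigOmega p R := by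
  simp only [Transfer.RankTwo.OmegaLE, not_forall, not_le] at h
  obtain ⟨K, hKe, hK⟩ := h
  let E : Subgroup R :=
    { carrier := {g | g ^ p = 1}
      one_mem' := one_pow _
      mul_mem' := fun {a b} ha hb => Transfer.RankTwo.pow_mul_eq_one hp5 hR hrk ha hb
      inv_mem' := fun {a} ha => by show a⁻¹ ^ p = 1; rw [inv_pow, show a ^ p = 1 from ha, inv_one] }
  have hEn : E.Normal := ⟨fun a ha g => by
    show (g * a * g⁻¹) ^ p = 1
    rw [conj_pow, show a ^ p = 1 from ha, mul_one, mul_inv_cancel]⟩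
  have hEe : ∀ x ∈ E, x ^ p = 1 := fun x hx => hx
  have hle : K ≤ E := fun x hx => hKe x hx
  have hup : Nat.card E ≤ p ^ 3 := Transfer.RankTwo.card_le_cube (hR.to_subgroup E)
    (Transfer.RankTwo.rankLE_subgroup hrk E) fun g => Subtype.ext g.2
  have hlt : p ^ 2 < Nat.card E := hK.trans_le (Subgroup.card_le_of_le hle)
  refine ⟨E, hEn, ?_, hEe, ?_⟩
  · obtain ⟨j, hj⟩ := IsPGroup.iff_card.1 (hR.to_subgroup E)
    rw [hj] at hup hlt ⊢
    have h1 := (Nat.pow_le_pow_iff_right hp.out.one_lt).1 hup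
    have h2 := (Nat.pow_lt_pow_iff_right hp.out.one_lt).1 hlt
    rw [show j = 3 by omega]
  · by_contra hc
    push Not at hc
    exact absurd (hrk E (commutative_of_forall hc) hEe) (not_le.2 hlt)

theorem classification {R : Type*} [Group R] [Finite R] (hp2 : p ≠ 2) (n : ℕ) (hn : Nat.card R = p ^ n)
    (hrk : Cfsg.PRankLE p 2 R) :
    Cfsg.IsMetacyclic R ∨ Families p R n ∨
      (p = 3 ∧ 2 ≤ n ∧ (⊤ : Subgroup R).lowerCentralSeries (n - 2) ≠ ⊥) := by
  have hR : IsPGroup p R := IsPGroup.of_card hn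
  by_cases h3 : p = 3
  · subst h3
    rcases case_three hR hrk n hn with h | ⟨h2, h⟩ | h
    · exact Or.inl h
    · haveI := hR.isNilpotent
      refine Or.inr (Or.inr ⟨rfl, h2, fun e => ?_⟩)
      have := _root_.lowerCentralSeries_eq_bot_iff_nilpotencyClass_le.1 e
      omega
    · exact Or.inr (Or.inl (families hp2 hR hrk n hn h))
  · have hp5 : 3 < p := by
      have := hp.out.two_le
      omega
    by_cases h : Transfer.RankTwo.OmegaLE p R
    · exact Or.inl (Transfer.RankTwo.isMetacyclic hp5 hR h)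
    · exact Or.inr (Or.inl (families hp2 hR hrk n hn (hasBigOmega_of_not_omegaLE hp5 hR hrk h)))

end Cfsg.Agent.Grp.Blackburn
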